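import Cfsg.Agent.Lib.Frobenius.ComplementSylow
import Cfsg.Agent.S0016

/-!
# Odd `p`-groups acting fixed-point-freely are cyclic; automorphisms of cyclic groups commute
-/

set_option autoImplicit false
set_option linter.style.haveILetI false

namespace CfsgLib.Zass

variable {G : Type*} [Group G]

/-- An odd `p`-group acting fixed-point-freely on a nontrivial abelian group is cyclic. -/
theorem isCyclic_of_fpf [Finite G] {p : ℕ} [hp : Fact p.Prime] (hp2 : p ≠ 2) {V P : Subgroup G}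
    [IsMulCommutative V] (hV : V ≠ ⊥) (hPV : P ≤ Subgroup.normalizer (V : Set G))
    (hfpf : ∀ x ∈ P, x ≠ 1 → V ⊓ Subgroup.centralizer {x} = ⊥) (hP : IsPGroup p P) :
    IsCyclic P := by
  by_cases hne : P = ⊥
  · subst hne; infer_instance
  haveI : Nontrivial P := (Subgroup.nontrivial_iff_ne_bot P).2 hne
  haveI := hP.center_nontrivial
  obtain ⟨z, hz⟩ := exists_prime_orderOf_dvd_card' (G := Subgroup.center P) p
    (((hP.to_subgroup _).card_eq_or_dvd).resolve_left
      (fun h => (Finite.one_lt_card (α := Subgroup.center P)).ne' h))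
  set z' : G := ((z : P) : G) with hz'
  have hz'o : orderOf z' = p := by rw [hz', Subgroup.orderOf_coe, Subgroup.orderOf_coe, hz]
  have hz'P : z' ∈ P := (z : P).2
  have hzc : ∀ y ∈ P, y * z' = z' * y := fun y hy =>
    congrArg Subtype.val (Subgroup.mem_center_iff.1 z.2 ⟨y, hy⟩)
  have key : ∀ x ∈ P, x ≠ 1 → x ^ p = 1 → Subgroup.zpowers x = Subgroup.zpowers z' := by
    intro x hx hx1 hxp
    have hxo : orderOf x = p := orderOf_eq_prime hxp hx1
    set M := Subgroup.closure ({x, z'} : Set G) with hM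
    have hsub : ({x, z'} : Set G) ⊆ M := Subgroup.subset_closure
    have hMP : M ≤ P := (Subgroup.closure_le _).2 (by
      rintro y (rfl | rfl)
      · exact hx
      · exact hz'P)
    haveI : IsMulCommutative M := Subgroup.isMulCommutative_closure (by
      rintro u (rfl | rfl) v (rfl | rfl)
      · rfl
      · exact hzc u hx
      · exact (hzc v hx).symm
      · rfl)
    haveI := CfsgLib.Frobenius.isCyclic_of_commutative_fpf hV (le_trans hMP hPV)
      (fun y hy => hfpf y (hMP hy))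
    have h1 : Subgroup.zpowers x ≤ M := Subgroup.zpowers_le.2 (hsub (by simp))
    have h2 : Subgroup.zpowers z' ≤ M := Subgroup.zpowers_le.2 (hsub (by simp))
    have heq : (Subgroup.zpowers x).subgroupOf M = (Subgroup.zpowers z').subgroupOf M :=
      CfsgLib.Frobenius.eq_of_card_eq_prime_of_isCyclic hp.out
        (by rw [Nat.card_congr (Subgroup.subgroupOfEquivOfLe h1).toEquiv, Nat.card_zpowers, hxo])
        (by rw [Nat.card_congr (Subgroup.subgroupOfEquivOfLe h2).toEquiv, Nat.card_zpowers, hz'o])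
    rwa [Subgroup.subgroupOf_inj, inf_eq_left.2 h1, inf_eq_left.2 h2] at heq
  refine CfsgLib.PGroup.isCyclic_of_unique_order_prime hp2 hP fun x y hx hx1 hy => ?_
  by_cases hy1 : y = 1
  · rw [hy1]; exact one_mem _
  have ex := key x x.2 (fun h => hx1 (Subtype.ext h)) (by simpa using congrArg Subtype.val hx)
  have ey := key y y.2 (fun h => hy1 (Subtype.ext h)) (by simpa using congrArg Subtype.val hy)
  obtain ⟨k, hk⟩ := Subgroup.mem_zpowers_iff.1
    (show (y : G) ∈ Subgroup.zpowers (x : G) by rw [ex, ← ey]; exact Subgroup.mem_zpowers _)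
  exact Subgroup.mem_zpowers_iff.2 ⟨k, Subtype.ext (by simpa using hk)⟩

/-- Conjugations on a normalised cyclic subgroup commute. -/
theorem conj_comm {D : Subgroup G} [hD : IsCyclic D] {u w : G}
    (hu : ∀ d ∈ D, u * d * u⁻¹ ∈ D) (hw : ∀ d ∈ D, w * d * w⁻¹ ∈ D) {d : G} (hd : d ∈ D) :
    u * (w * d * w⁻¹) * u⁻¹ = w * (u * d * u⁻¹) * w⁻¹ := by
  obtain ⟨e, he⟩ := hD.exists_generator
  obtain ⟨i, hi⟩ := Subgroup.mem_zpowers_iff.1 (he ⟨_, hu e e.2⟩)
  obtain ⟨j, hj⟩ := Subgroup.mem_zpowers_iff.1 (he ⟨_, hw e e.2⟩)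
  obtain ⟨l, hl⟩ := Subgroup.mem_zpowers_iff.1 (he ⟨d, hd⟩)
  have hi' : u * e * u⁻¹ = (e : G) ^ i := by simpa using (congrArg Subtype.val hi).symm
  have hj' : w * e * w⁻¹ = (e : G) ^ j := by simpa using (congrArg Subtype.val hj).symm
  have hl' : d = (e : G) ^ l := by simpa using (congrArg Subtype.val hl).symm
  have cu : ∀ n : ℤ, u * (e : G) ^ n * u⁻¹ = (e : G) ^ (i * n) := fun n => by
    rw [← conj_zpow, hi', ← zpow_mul]
  have cw : ∀ n : ℤ, w * (e : G) ^ n * w⁻¹ = (e : G) ^ (j * n) := fun n => by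
    rw [← conj_zpow, hj', ← zpow_mul]
  rw [hl', cw, cu, cu, cw]
  congr 1
  ring

/-- An involutive automorphism of a cyclic group of odd prime power order is trivial or the
inversion. -/
theorem trivial_or_inverts [Finite G] {q : ℕ} (hq : q.Prime) (hq2 : q ≠ 2) {P : Subgroup G}
    [hc : IsCyclic P] (hP : IsPGroup q P) {g : G} (hg : ∀ x ∈ P, g * x * g⁻¹ ∈ P)
    (hgg : ∀ x ∈ P, g * (g * x * g⁻¹) * g⁻¹ = x) :
    (∀ x ∈ P, g * x * g⁻¹ = x) ∨ ∀ x ∈ P, g * x * g⁻¹ = x⁻¹ := by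
  haveI := Fact.mk hq
  obtain ⟨e, he⟩ := hc.exists_generator
  obtain ⟨i, hi⟩ := Subgroup.mem_zpowers_iff.1 (he ⟨_, hg e e.2⟩)
  have hi' : g * e * g⁻¹ = (e : G) ^ i := by simpa using (congrArg Subtype.val hi).symm
  have cg : ∀ n : ℤ, g * (e : G) ^ n * g⁻¹ = (e : G) ^ (i * n) := fun n => by
    rw [← conj_zpow, hi', ← zpow_mul]
  obtain ⟨k, hk⟩ := IsPGroup.iff_orderOf.1 hP e
  have hdvd : ((q : ℤ) ^ k) ∣ (i - 1) * (i + 1) := by
    have h1 : (e : G) ^ (i * i) = (e : G) ^ (1 : ℤ) := by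
      rw [← cg i, ← hi', hgg e e.2, zpow_one]
    have h2 := zpow_eq_zpow_iff_modEq.1 h1
    rw [Subgroup.orderOf_coe, hk] at h2
    have := h2.symm.dvd
    push_cast at this
    rwa [show (i - 1) * (i + 1) = i * i - 1 by ring]
  have hqp : Prime (q : ℤ) := Nat.prime_iff_prime_int.1 hq
  have hall : ∀ m : ℤ, (q : ℤ) ^ k ∣ i - m → ∀ x ∈ P, g * x * g⁻¹ = x ^ m := by
    intro m hm x hx
    obtain ⟨l, hl⟩ := Subgroup.mem_zpowers_iff.1 (he ⟨x, hx⟩)
    have hl' : x = (e : G) ^ l := by simpa using (congrArg Subtype.val hl).symm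
    rw [hl', cg, ← zpow_mul, zpow_eq_zpow_iff_modEq, Subgroup.orderOf_coe, hk, Int.modEq_iff_dvd]
    push_cast
    rw [show l * m - i * l = -(l * (i - m)) by ring, dvd_neg]
    exact Dvd.dvd.mul_left hm l
  by_cases h1 : (q : ℤ) ∣ i - 1
  · left
    have h2 : ¬ (q : ℤ) ∣ i + 1 := fun h => by
      have h3 := Int.dvd_sub h h1
      rw [show i + 1 - (i - 1) = ((2 : ℕ) : ℤ) by push_cast; ring, Int.natCast_dvd_natCast] at h3
      exact hq2 ((Nat.prime_dvd_prime_iff_eq hq Nat.prime_two).1 h3)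
    intro x hx
    simpa using hall 1 (hqp.pow_dvd_of_dvd_mul_right k h2 hdvd) x hx
  · right
    intro x hx
    simpa using hall (-1) (by simpa using hqp.pow_dvd_of_dvd_mul_left k h1 hdvd) x hx

end CfsgLib.Zass
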