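import Cfsg.Agent.Lib.Zass.Basic
import Cfsg.Agent.Lib.Zass.FpfCyclic
import Mathlib.GroupTheory.Transfer
import Mathlib.GroupTheory.SpecificGroups.ZGroup

/-!
# A two-point stabiliser of odd order

If the two-point stabiliser has odd order and no normal `q`-complement exists for the primes `q`
dividing it, then it is cyclic and inverted by every element exchanging the two points.
-/

set_option autoImplicit false
set_option linter.style.haveILetI false
set_option linter.unusedSectionVars false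

open scoped Pointwise commutatorElement
open MulAction

namespace CfsgLib.Zass.Pre

variable {G Ω : Type*} [Group G] [MulAction G Ω]

/-- An element carrying a nontrivial element of a two-point stabiliser into it stabilises the
pair. -/
theorem pair_of_conj (hP : Pre G Ω) {a b : Ω} (hab : a ≠ b) {g x : G}
    (hx : x ∈ stabilizer G a ⊓ stabilizer G b) (hx1 : x ≠ 1)
    (hgx : g * x * g⁻¹ ∈ stabilizer G a ⊓ stabilizer G b) :
    (g • a = a ∧ g • b = b) ∨ (g • a = b ∧ g • b = a) := by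
  simp only [Subgroup.mem_inf, mem_stabilizer_iff] at hx hgx
  have h1 : g * x * g⁻¹ ≠ 1 := by simpa [mul_inv_eq_one] using hx1
  have fa : (g * x * g⁻¹) • (g • a) = g • a := by rw [mul_smul, mul_smul, inv_smul_smul, hx.1]
  have fb : (g * x * g⁻¹) • (g • b) = g • b := by rw [mul_smul, mul_smul, inv_smul_smul, hx.2]
  have hne : g • a ≠ g • b := fun h => hab (MulAction.injective g h)
  rcases hP.eq_or_eq h1 hab hgx.1 hgx.2 fa with ha | ha <;>
    rcases hP.eq_or_eq h1 hab hgx.1 hgx.2 fb with hb | hb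
  · exact absurd (ha.trans hb.symm) hne
  · exact Or.inl ⟨ha, hb⟩
  · exact Or.inr ⟨ha, hb⟩
  · exact absurd (ha.trans hb.symm) hne

theorem conj_mem_pair {a b : Ω} {g : G}
    (hg : (g • a = a ∧ g • b = b) ∨ (g • a = b ∧ g • b = a)) {x : G}
    (hx : x ∈ stabilizer G a ⊓ stabilizer G b) :
    g * x * g⁻¹ ∈ stabilizer G a ⊓ stabilizer G b := by
  simp only [Subgroup.mem_inf, mem_stabilizer_iff] at hx ⊢
  rcases hg with ⟨ha, hb⟩ | ⟨ha, hb⟩
  · have ia : g⁻¹ • a = a := by rw [inv_smul_eq_iff, ha]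
    have ib : g⁻¹ • b = b := by rw [inv_smul_eq_iff, hb]
    simp [mul_smul, ia, ib, ha, hb, hx.1, hx.2]
  · have ia : g⁻¹ • a = b := by rw [inv_smul_eq_iff, hb]
    have ib : g⁻¹ • b = a := by rw [inv_smul_eq_iff, ha]
    simp [mul_smul, ia, ib, ha, hb, hx.1, hx.2]

/-- A nontrivial abelian subgroup of the kernel on which the two-point stabiliser acts
fixed-point-freely. -/
theorem exists_abelian_fpf (hP : Pre G Ω) [Finite Ω] {a b : Ω} (hab : a ≠ b) :
    ∃ V : Subgroup G, V ≠ ⊥ ∧ IsMulCommutative V ∧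
      stabilizer G a ⊓ stabilizer G b ≤ Subgroup.normalizer (V : Set G) ∧
      ∀ h ∈ stabilizer G a ⊓ stabilizer G b, h ≠ 1 → V ⊓ Subgroup.centralizer {h} = ⊥ := by
  haveI := hP.finite_group
  haveI : Fintype (stabilizer G a) := Fintype.ofFinite _
  have hF := hP.isFrobeniusComplement hab
  obtain ⟨N, -, hNn, hNc⟩ := CfsgLib.Frobenius.exists_kernel_subgroup hF
  have hNne : N ≠ ⊥ := by
    intro h
    rw [h, Subgroup.isComplement'_bot_left] at hNc
    exact hF.2.1 hNc
  obtain ⟨V, hV, hVc, hVn, hVf⟩ := CfsgLib.Frobenius.exists_invariant_abelian' hNc hNne hF.1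
    (fun h hh h1 => CfsgLib.Frobenius.fpf_of_isFrobeniusComplement hNc hF hh h1)
  refine ⟨V.map (stabilizer G a).subtype, fun h => hV
    ((Subgroup.map_eq_bot_iff_of_injective _ (stabilizer G a).subtype_injective).1 h), ?_, ?_, ?_⟩
  · constructor; constructor
    rintro ⟨_, x, hx, rfl⟩ ⟨_, y, hy, rfl⟩
    refine Subtype.ext ?_
    have e : x * y = y * x := setLike_mul_comm (s := V) hx hy
    exact congrArg (fun z : stabilizer G a => (z : G)) e
  · intro h hh
    rw [Subgroup.mem_normalizer_iff]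
    intro x
    have hm := Subgroup.mem_normalizer_iff.1 (hVn (Subgroup.mem_subgroupOf.2 hh :
      (⟨h, hh.1⟩ : stabilizer G a) ∈ (stabilizer G a ⊓ stabilizer G b).subgroupOf (stabilizer G a)))
    constructor
    · rintro ⟨y, hy, rfl⟩
      exact ⟨_, (hm y).1 hy, rfl⟩
    · rintro ⟨y, hy, e⟩
      have e' : (y : G) = h * x * h⁻¹ := e
      refine ⟨⟨h, hh.1⟩⁻¹ * y * ⟨h, hh.1⟩, ?_, ?_⟩
      · rw [SetLike.mem_coe, hm]
        simpa [mul_assoc] using hy
      · show h⁻¹ * (y : G) * h = x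
        rw [e']; group
  · intro h hh h1
    rw [Subgroup.eq_bot_iff_forall]
    rintro _ ⟨⟨y, hy, rfl⟩, hc⟩
    have hc' : h * (y : G) = y * h := by
      simpa [Subgroup.mem_centralizer_iff] using hc
    have := (Subgroup.eq_bot_iff_forall _).1 (hVf ⟨h, hh.1⟩ (Subgroup.mem_subgroupOf.2 hh)
      (fun e => h1 (congrArg Subtype.val e))) y ⟨hy, Subgroup.mem_centralizer_iff.2 (by
        simp only [Set.mem_singleton_iff, forall_eq]
        exact Subtype.ext hc')⟩
    simp [this]

/-- A Sylow subgroup for an odd prime of a two-point stabiliser is a Sylow subgroup of the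
group. -/
theorem sylow_of_stab (hP : Pre G Ω) [Finite G] {a b : Ω} (hab : a ≠ b) {q : ℕ} [Fact q.Prime]
    (hq2 : q ≠ 2) {H : Subgroup G} (hH : H = stabilizer G a ⊓ stabilizer G b) (Q₀ : Sylow q H)
    (hne : (Q₀ : Subgroup H) ≠ ⊥) :
    ∃ P : Sylow q G, (P : Subgroup G) = (Q₀ : Subgroup H).map H.subtype := by
  set Q : Subgroup G := (Q₀ : Subgroup H).map H.subtype with hQ
  have hQH : Q ≤ H := Subgroup.map_subtype_le _
  obtain ⟨P, hQP⟩ := (Q₀.isPGroup'.map H.subtype).exists_le_sylow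
  refine ⟨P, le_antisymm ?_ hQP⟩
  obtain ⟨x, hx, hx1⟩ := (Q.bot_or_exists_ne_one).resolve_left (fun h => hne
    ((Subgroup.map_eq_bot_iff_of_injective _ H.subtype_injective).1 h))
  haveI : Group.IsNilpotent (P : Subgroup G) := P.isPGroup'.isNilpotent
  have hPH : (P : Subgroup G) ⊓ H = Q := by
    refine le_antisymm ?_ (le_inf hQP hQH)
    intro y hy
    have hpg : IsPGroup q (((P : Subgroup G) ⊓ H).subgroupOf H) :=
      (P.isPGroup'.to_le inf_le_left).comap_of_injective _ H.subtype_injective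
    have hle : (Q₀ : Subgroup H) ≤ ((P : Subgroup G) ⊓ H).subgroupOf H := fun z hz =>
      ⟨hQP ⟨z, hz, rfl⟩, z.2⟩
    have := Q₀.is_maximal' hpg hle
    exact ⟨⟨y, hy.2⟩, this ▸ hy, rfl⟩
  by_contra hle
  have hlt : Q.subgroupOf (P : Subgroup G) < ⊤ := by
    rw [lt_top_iff_ne_top]
    intro h
    exact hle (Subgroup.subgroupOf_eq_top.1 h)
  obtain ⟨⟨g, hgP⟩, hgN, hgQ⟩ :=
    SetLike.exists_of_lt (Group.normalizerCondition_of_isNilpotent (Q.subgroupOf (P : Subgroup G)) hlt)
  have hgx : g * x * g⁻¹ ∈ Q :=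
    Subgroup.mem_subgroupOf.1 ((Subgroup.mem_normalizer_iff.1 hgN ⟨x, hQP hx⟩).1 hx)
  rcases hP.pair_of_conj hab (hH ▸ hQH hx) hx1 (hH ▸ hQH hgx) with h | h
  · exact hgQ (Subgroup.mem_subgroupOf.2 (by rw [← hPH]; exact ⟨hgP, hH ▸ ⟨h.1, h.2⟩⟩))
  · obtain ⟨k, hk⟩ := IsPGroup.iff_orderOf.1 P.isPGroup' ⟨g, hgP⟩
    rw [Subgroup.orderOf_mk] at hk
    obtain ⟨m, hm⟩ : Odd (orderOf g) := by
      rw [hk]; exact ((Fact.out : q.Prime).odd_of_ne_two hq2).pow
    have h2 : g ^ 2 ∈ stabilizer G a := by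
      rw [mem_stabilizer_iff, pow_two, mul_smul, h.1, h.2]
    have h3 : g ∈ stabilizer G a := by
      have := Subgroup.pow_mem _ h2 (m + 1)
      rwa [← pow_mul, show 2 * (m + 1) = orderOf g + 1 by omega, pow_succ, pow_orderOf_eq_one,
        one_mul] at this
    exact hab ((show g • a = a from h3).symm.trans h.1)

/-- Zassenhaus' lemma on two-point stabilisers of odd order. -/
theorem odd_stab (hP : Pre G Ω) [Finite Ω] {a b : Ω} (hab : a ≠ b)
    (hodd : Odd (Nat.card ↥(stabilizer G a ⊓ stabilizer G b)))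
    (hnil : ∀ q : ℕ, q.Prime → q ∣ Nat.card ↥(stabilizer G a ⊓ stabilizer G b) →
      ¬ ∃ N : Subgroup G, N.Normal ∧ N.index = q ^ (Nat.card G).factorization q) :
    IsCyclic ↥(stabilizer G a ⊓ stabilizer G b) ∧
      Subgroup.centralizer ((stabilizer G a ⊓ stabilizer G b : Subgroup G) : Set G) =
        stabilizer G a ⊓ stabilizer G b ∧
      ∀ s : G, s • a = b → s • b = a → ∀ h ∈ stabilizer G a ⊓ stabilizer G b,
        s * h * s⁻¹ = h⁻¹ := by
  haveI := hP.finite_group
  set H : Subgroup G := stabilizer G a ⊓ stabilizer G b with hH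
  obtain ⟨V, hV, hVc, hHV, hfpf⟩ := hP.exists_abelian_fpf hab
  rw [← hH] at hHV hfpf
  haveI := hVc
  have hq2 : ∀ q : ℕ, q.Prime → q ∣ Nat.card H → q ≠ 2 := by
    rintro q - hqd rfl
    exact (Nat.not_even_iff_odd.2 hodd) (even_iff_two_dvd.2 hqd)
  haveI hZG : IsZGroup H := ⟨fun q hq Q₀ => by
    haveI := Fact.mk hq
    by_cases hqd : q ∣ Nat.card H
    · haveI := isCyclic_of_fpf (hq2 q hq hqd) hV (P := (Q₀ : Subgroup H).map H.subtype)
        (le_trans (Subgroup.map_subtype_le _) hHV)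
        (fun x hx => hfpf x (Subgroup.map_subtype_le _ hx)) (Q₀.isPGroup'.map _)
      exact (Subgroup.equivMapOfInjective _ _ H.subtype_injective).isCyclic.2 inferInstance
    · have hb : (Q₀ : Subgroup H) = ⊥ := by
        rcases Q₀.isPGroup'.card_eq_or_dvd with h | h
        · exact Subgroup.card_eq_one.1 h
        · exact absurd (h.trans (Subgroup.card_subgroup_dvd_card _)) hqd
      show IsCyclic (Q₀ : Subgroup H)
      rw [hb]; infer_instance⟩
  -- a swap inverting a given Sylow subgroup, provided the automiser inside `H` is trivial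
  have hinv : ∀ q : ℕ, ∀ [Fact q.Prime], q ∣ Nat.card H → ∀ Q₀ : Sylow q H,
      (∀ g ∈ H, ∀ x : H, x ∈ (Q₀ : Subgroup H) →
        (∀ y : H, y ∈ (Q₀ : Subgroup H) → ∃ z : H, z ∈ (Q₀ : Subgroup H) ∧ (z : G) = g * y * g⁻¹) →
        g * x * g⁻¹ = x) →
      ∃ s : G, s • a = b ∧ s • b = a ∧ ∀ x : H, x ∈ (Q₀ : Subgroup H) →
        s * x * s⁻¹ = (x : G)⁻¹ := by
    intro q _ hqd Q₀ hcase
    have hqp : q.Prime := Fact.out
    have hq := hq2 q hqp hqd
    have hne : (Q₀ : Subgroup H) ≠ ⊥ := Q₀.ne_bot_of_dvd_card hqd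
    obtain ⟨P, hPQ⟩ := hP.sylow_of_stab hab hq hH Q₀ hne
    have hPH : (P : Subgroup G) ≤ H := hPQ ▸ Subgroup.map_subtype_le _
    haveI : IsCyclic (P : Subgroup G) := isCyclic_of_fpf hq hV (le_trans hPH hHV)
      (fun x hx => hfpf x (hPH hx)) P.isPGroup'
    obtain ⟨g, hgN, hgC⟩ : ∃ g ∈ Subgroup.normalizer ((P : Subgroup G) : Set G),
        g ∉ Subgroup.centralizer ((P : Subgroup G) : Set G) := by
      by_contra h
      push Not at h
      refine hnil q hqp hqd ⟨(MonoidHom.transferSylow P h).ker, inferInstance, ?_⟩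
      rw [(MonoidHom.ker_transferSylow_isComplement' P h).symm.index_eq_card, P.card_eq_multiplicity]
    have hgP : ∀ x ∈ (P : Subgroup G), g * x * g⁻¹ ∈ (P : Subgroup G) := fun x hx =>
      (Subgroup.mem_normalizer_iff.1 hgN x).1 hx
    have key : ∀ u : G, u ∈ H → (∀ x ∈ (P : Subgroup G), u * x * u⁻¹ ∈ (P : Subgroup G)) →
        ∀ x ∈ (P : Subgroup G), u * x * u⁻¹ = x := by
      intro u hu hun x hx
      rw [hPQ] at hx
      obtain ⟨x', hx', rfl⟩ := hx
      refine hcase u hu x' hx' fun y hy => ?_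
      have := hun y (by rw [hPQ]; exact ⟨y, hy, rfl⟩)
      rw [hPQ] at this
      obtain ⟨z, hz, e⟩ := this
      exact ⟨z, hz, e⟩
    obtain ⟨x, hx, hx1⟩ := ((P : Subgroup G).bot_or_exists_ne_one).resolve_left
      (P.ne_bot_of_dvd_card (hqd.trans (Subgroup.card_subgroup_dvd_card H)))
    rcases hP.pair_of_conj hab (hPH hx) hx1 (hPH (hgP x hx)) with h | h
    · exfalso
      refine hgC (Subgroup.mem_centralizer_iff.2 fun y hy => ?_)
      exact (mul_inv_eq_iff_eq_mul.1 (key g ⟨h.1, h.2⟩ hgP y hy)).symm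
    have hgg : ∀ y ∈ (P : Subgroup G), g * (g * y * g⁻¹) * g⁻¹ = y := by
      intro y hy
      have h2 : g * g ∈ H := by
        simp only [hH, Subgroup.mem_inf, mem_stabilizer_iff, mul_smul, h.1, h.2, and_self]
      have h3 := key (g * g) h2 (fun z hz => by
        simpa [mul_assoc] using hgP _ (hgP z hz)) y hy
      simpa [mul_assoc] using h3
    rcases trivial_or_inverts hqp hq P.isPGroup' hgP hgg with ht | ht
    · exact absurd (Subgroup.mem_centralizer_iff.2 fun y hy =>
        (mul_inv_eq_iff_eq_mul.1 (ht y hy)).symm) hgC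
    · exact ⟨g, h.1, h.2, fun y hy => ht y (by rw [hPQ]; exact ⟨y, hy, rfl⟩)⟩
  have hoddo : ∀ x : H, Odd (orderOf x) := fun x =>
    Odd.of_dvd_nat hodd (orderOf_dvd_natCard x)
  have hfull : ∀ S : Subgroup H,
      (∀ q : ℕ, ∀ [Fact q.Prime], q ∣ Nat.card H → ∃ Q₀ : Sylow q H, (Q₀ : Subgroup H) ≤ S) →
      S = ⊤ := by
    intro S hS
    rw [← Subgroup.index_eq_one]
    by_contra hne
    obtain ⟨q, hq, hqd⟩ := Nat.exists_prime_and_dvd hne
    haveI := Fact.mk hq
    obtain ⟨Q₀, hle⟩ := hS q (hqd.trans (Subgroup.index_dvd_card S))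
    exact Q₀.not_dvd_index (hqd.trans (Subgroup.index_dvd_of_le hle))
  -- the derived group is central
  set D : Subgroup H := commutator H with hD
  haveI : IsCyclic D := IsZGroup.isCyclic_commutator H
  set DG : Subgroup G := D.map H.subtype with hDG
  haveI : IsCyclic DG :=
    (Subgroup.equivMapOfInjective D _ H.subtype_injective).isCyclic.1 inferInstance
  have hDnorm : ∀ u : G, ((u • a = a ∧ u • b = b) ∨ (u • a = b ∧ u • b = a)) →
      ∀ d ∈ DG, u * d * u⁻¹ ∈ DG := by
    intro u hu d hd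
    have e : ⁅H, H⁆ = DG := (Subgroup.map_subtype_commutator H).symm
    rw [← e] at hd ⊢
    have h1 : u * d * u⁻¹ ∈ (⁅H, H⁆ : Subgroup G).map (MulAut.conj u).toMonoidHom := ⟨d, hd, rfl⟩
    rw [Subgroup.map_commutator] at h1
    refine Subgroup.commutator_mono ?_ ?_ h1 <;>
    · rintro _ ⟨y, hy, rfl⟩
      exact conj_mem_pair hu hy
  have hDc : D ≤ Subgroup.center H := by
    have htop : Subgroup.centralizer (D : Set H) = ⊤ := by
      refine hfull _ fun q _ hqd => ?_
      obtain ⟨Q₀⟩ : Nonempty (Sylow q H) := inferInstance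
      refine ⟨Q₀, ?_⟩
      by_cases hqD : q ∣ Nat.card D
      · -- `Q₀` lies in the Hall subgroup `D`
        have hle : (Q₀ : Subgroup H) ≤ D := by
          intro x hx
          rw [← QuotientGroup.eq_one_iff (N := D), ← orderOf_eq_one_iff]
          obtain ⟨k, hk⟩ := IsPGroup.iff_orderOf.1 Q₀.isPGroup' ⟨x, hx⟩
          rw [Subgroup.orderOf_mk] at hk
          have h1 : orderOf (QuotientGroup.mk x : H ⧸ D) ∣ q ^ k :=
            hk ▸ orderOf_map_dvd (QuotientGroup.mk' D) x
          have h2 : orderOf (QuotientGroup.mk x : H ⧸ D) ∣ D.index := orderOf_dvd_natCard _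
          exact Nat.eq_one_of_dvd_coprimes
            (((IsZGroup.coprime_commutator_index H).coprime_dvd_left hqD).pow_left k) h1 h2
        haveI : IsMulCommutative D := IsCyclic.isMulCommutative
        exact hle.trans (Subgroup.le_centralizer D)
      obtain ⟨s, sa, sb, hs⟩ := hinv q hqd Q₀ (by
        intro g hg x hx hn
        obtain ⟨z, hz, e⟩ := hn x hx
        have h1 : z * x⁻¹ ∈ D := by
          have e' : z * x⁻¹ = ⁅(⟨g, hg⟩ : H), x⁆ := Subtype.ext (by
            simp [commutatorElement_def, e])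
          rw [e', hD, commutator_def]
          exact Subgroup.commutator_mem_commutator (Subgroup.mem_top _) (Subgroup.mem_top _)
        have h2 : z * x⁻¹ ∈ (Q₀ : Subgroup H) := mul_mem hz (inv_mem hx)
        have h3 : (Q₀ : Subgroup H) ⊓ D = ⊥ := by
          rw [← disjoint_iff]
          apply Subgroup.disjoint_of_coprime_natCard
          obtain ⟨k, hk⟩ := IsPGroup.iff_card.1 Q₀.isPGroup'
          rw [hk]
          exact ((Fact.out : q.Prime).coprime_iff_not_dvd.2 hqD).pow_left k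
        have h4 : z * x⁻¹ ∈ (Q₀ : Subgroup H) ⊓ D := ⟨h2, h1⟩
        rw [h3, Subgroup.mem_bot, mul_inv_eq_one] at h4
        rw [← e, h4])
      intro x hx
      rw [Subgroup.mem_centralizer_iff]
      intro d hd
      have hxH : ((x : G) • a = a ∧ (x : G) • b = b) := x.2
      have hx2 : ∀ e ∈ DG, (x : G) ^ 2 * e = e * (x : G) ^ 2 := by
        intro e he
        have c := conj_comm (D := DG) (u := s) (w := (x : G))
          (hDnorm s (Or.inr ⟨sa, sb⟩)) (hDnorm x (Or.inl hxH))
          (d := s⁻¹ * e * s) (by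
            have := hDnorm s⁻¹ (Or.inr ⟨by rw [inv_smul_eq_iff, sb], by rw [inv_smul_eq_iff, sa]⟩)
              e he
            simpa using this)
        have c1 : s * ((x : G) * (s⁻¹ * e * s) * (x : G)⁻¹) * s⁻¹ = (x : G)⁻¹ * e * x := by
          calc s * ((x : G) * (s⁻¹ * e * s) * (x : G)⁻¹) * s⁻¹
              = (s * x * s⁻¹) * e * (s * x * s⁻¹)⁻¹ := by group
            _ = (x : G)⁻¹ * e * x := by rw [hs x hx, inv_inv]
        have c2 : (x : G) * (s * (s⁻¹ * e * s) * s⁻¹) * (x : G)⁻¹ = x * e * (x : G)⁻¹ := by group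
        rw [c1, c2] at c
        calc (x : G) ^ 2 * e = (x : G) * ((x : G) * e * (x : G)⁻¹) * x := by
              rw [pow_two]; group
          _ = (x : G) * ((x : G)⁻¹ * e * x) * x := by rw [← c]
          _ = e * (x : G) ^ 2 := by rw [pow_two]; group
      obtain ⟨m, hm⟩ := hoddo x
      have hx' : (x : G) = ((x : G) ^ 2) ^ (m + 1) := by
        rw [← pow_mul, show 2 * (m + 1) = orderOf x + 1 by omega, pow_succ,
          ← Subgroup.orderOf_coe, pow_orderOf_eq_one, one_mul]
      have hcm : Commute ((x : G) ^ 2) (d : G) := hx2 _ ⟨d, hd, rfl⟩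
      have := (hcm.pow_left (m + 1))
      rw [← hx'] at this
      exact Subtype.ext this.eq.symm
    intro d hd
    rw [Subgroup.mem_center_iff]
    intro x
    have hx : x ∈ Subgroup.centralizer (D : Set H) := by rw [htop]; trivial
    exact (Subgroup.mem_centralizer_iff.1 hx d hd).symm
  have hcomm : ∀ x y : H, x * y = y * x := fun x y =>
    @mul_comm H (commGroupOfCyclicCenterQuotient Abelianization.of
      (by rw [Abelianization.ker_of]; exact hDc)).toCommMagma x y
  haveI : IsMulCommutative H := ⟨⟨hcomm⟩⟩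
  have hall : ∀ s : G, s • a = b → s • b = a → ∀ h ∈ H, s * h * s⁻¹ = h⁻¹ := by
    intro s sa sb
    let S : Subgroup H :=
      { carrier := {x | s * (x : G) * s⁻¹ = (x : G)⁻¹}
        one_mem' := by simp
        mul_mem' := fun {x y} hx hy => by
          show s * ((x : G) * y) * s⁻¹ = ((x : G) * y)⁻¹
          calc s * ((x : G) * y) * s⁻¹ = (s * (x : G) * s⁻¹) * (s * (y : G) * s⁻¹) := by group
            _ = ((y : G) * x)⁻¹ := by rw [hx, hy, mul_inv_rev]
            _ = _ := by rw [show (y : G) * x = x * y from congrArg Subtype.val (hcomm y x)]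
        inv_mem' := fun {x} hx => by
          show s * (x : G)⁻¹ * s⁻¹ = ((x : G)⁻¹)⁻¹
          rw [← conj_inv, hx] }
    have hS : S = ⊤ := by
      refine hfull S fun q _ hqd => ?_
      obtain ⟨Q₀⟩ : Nonempty (Sylow q H) := inferInstance
      refine ⟨Q₀, fun x hx => ?_⟩
      obtain ⟨t, ta, tb, ht⟩ := hinv q hqd Q₀ (fun g hg y _ _ => by
        have h : g * (y : G) = y * g := congrArg Subtype.val (hcomm ⟨g, hg⟩ y)
        rw [h, mul_inv_cancel_right])
      have hst : t⁻¹ * s ∈ H := by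
        simp only [hH, Subgroup.mem_inf, mem_stabilizer_iff, mul_smul, sa, sb, inv_smul_eq_iff,
          ta, tb, and_self]
      show s * (x : G) * s⁻¹ = (x : G)⁻¹
      have e : (t⁻¹ * s) * (x : G) * (t⁻¹ * s)⁻¹ = x := by
        rw [show (t⁻¹ * s) * (x : G) = x * (t⁻¹ * s) from
          congrArg Subtype.val (hcomm ⟨_, hst⟩ x), mul_inv_cancel_right]
      calc s * (x : G) * s⁻¹ = t * ((t⁻¹ * s) * (x : G) * (t⁻¹ * s)⁻¹) * t⁻¹ := by group
        _ = (x : G)⁻¹ := by rw [e, ht x hx]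
    intro h hh
    have : (⟨h, hh⟩ : H) ∈ S := by rw [hS]; trivial
    exact this
  refine ⟨CfsgLib.Frobenius.isCyclic_of_commutative_fpf hV hHV hfpf, ?_, hall⟩
  refine le_antisymm (fun g hg => ?_) (Subgroup.le_centralizer H)
  obtain ⟨x, hx1, hxa, hxb⟩ := hP.exists_two_fix hab
  have hxH : x ∈ H := ⟨hxa, hxb⟩
  have hc : g * x * g⁻¹ = x := by
    rw [← Subgroup.mem_centralizer_iff.1 hg x hxH, mul_inv_cancel_right]
  rcases hP.pair_of_conj hab (g := g) hxH hx1 (by rw [hc]; exact hxH) with h | h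
  · exact ⟨h.1, h.2⟩
  · exfalso
    have h2 := hall g h.1 h.2 x hxH
    rw [hc] at h2
    have h3 : x ^ 2 = 1 := by rw [pow_two]; nth_rw 2 [h2]; rw [mul_inv_cancel]
    obtain ⟨m, hm⟩ := hoddo ⟨x, hxH⟩
    rw [Subgroup.orderOf_mk] at hm
    have hd := orderOf_dvd_of_pow_eq_one h3
    have := Nat.le_of_dvd (by norm_num) hd
    interval_cases hmo : orderOf x
    · omega
    · exact hx1 (orderOf_eq_one_iff.1 hmo)
    · omega

end CfsgLib.Zass.Pre
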