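import Cfsg.Agent.Lib.Zass.SignCycle
import Cfsg.Agent.Lib.SharpThree.TwoPointAction
import Cfsg.Agent.Lib.Frobenius.Involution
import Cfsg.Agent.Lib.Fusion.ThompsonTransfer

/-!
# A sharply three-transitive group of even degree is not simple
-/

set_option autoImplicit false
set_option linter.style.haveILetI false
set_option linter.unusedSectionVars false

open MulAction

namespace CfsgLib.Zass.Pre

variable {G Ω : Type*} [Group G] [MulAction G Ω]

/-- Two involutions of a two-point stabiliser are equal. -/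
theorem involution_unique (hP : Pre G Ω) [Finite Ω] {a b : Ω} (hab : a ≠ b) {t u : G}
    (tt : t * t = 1) (t1 : t ≠ 1) (ta : t • a = a) (tb : t • b = b)
    (uu : u * u = 1) (u1 : u ≠ 1) (ua : u • a = a) (ub : u • b = b) : t = u := by
  haveI := hP.finite_group
  haveI : Fintype (stabilizer G a) := Fintype.ofFinite _
  have hF := hP.isFrobeniusComplement hab
  obtain ⟨N, -, hNn, hNc⟩ := CfsgLib.Frobenius.exists_kernel_subgroup hF
  have hNne : N ≠ ⊥ := by
    intro h
    rw [h, Subgroup.isComplement'_bot_left] at hNc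
    exact hF.2.1 hNc
  set H := (stabilizer G a ⊓ stabilizer G b).subgroupOf (stabilizer G a) with hH
  have ht : (⟨t, ta⟩ : stabilizer G a) ∈ H := Subgroup.mem_subgroupOf.2 ⟨ta, tb⟩
  have hu : (⟨u, ua⟩ : stabilizer G a) ∈ H := Subgroup.mem_subgroupOf.2 ⟨ua, ub⟩
  have o : ∀ (x : G) (hx : x • a = a), orderOf (⟨x, hx⟩ : stabilizer G a) = orderOf x :=
    fun x hx => (Subgroup.orderOf_coe (⟨x, hx⟩ : stabilizer G a)).symm
  have h2 : 2 ∣ Nat.card H := by
    have h := H.orderOf_dvd_natCard ht
    rwa [o, orderOf_eq_prime (by rw [pow_two]; exact tt) t1] at h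
  obtain ⟨⟨s, -, -, huniq, -⟩, -⟩ := CfsgLib.Frobenius.unique_involution hNc hNne
    (fun h hh h1 => CfsgLib.Frobenius.fpf_of_isFrobeniusComplement hNc hF hh h1) h2
  have e1 := huniq _ ht (by rw [o, orderOf_eq_prime (by rw [pow_two]; exact tt) t1])
  have e2 := huniq _ hu (by rw [o, orderOf_eq_prime (by rw [pow_two]; exact uu) u1])
  exact congrArg Subtype.val (e1.trans e2.symm)

theorem isS3_of_sharp (hP : Pre G Ω) [Fintype Ω]
    (hd : ∀ a b : Ω, a ≠ b →
      Nat.card ↥(stabilizer G a ⊓ stabilizer G b) = Fintype.card Ω - 2) :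
    CfsgLib.SharpThree.IsS3 G Ω ∧
      ∀ a b c d : Ω, a ≠ b → c ≠ a → c ≠ b → d ≠ a → d ≠ b →
        ∃ g : G, g • a = a ∧ g • b = b ∧ g • c = d := by
  classical
  haveI := hP.finite_group
  have hreg : ∀ a b c d : Ω, a ≠ b → c ≠ a → c ≠ b → d ≠ a → d ≠ b →
      ∃ g : G, g • a = a ∧ g • b = b ∧ g • c = d := by
    intro a b c d hab hca hcb hda hdb
    let f : ↥(stabilizer G a ⊓ stabilizer G b) → {x : Ω // x ≠ a ∧ x ≠ b} := fun g =>
      ⟨(g : G) • c, fun e => hca (MulAction.injective (g : G) (e.trans g.2.1.symm)),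
        fun e => hcb (MulAction.injective (g : G) (e.trans g.2.2.symm))⟩
    have hf : Function.Bijective f := by
      rw [Nat.bijective_iff_injective_and_card]
      refine ⟨fun g g' e => ?_, ?_⟩
      · have e' : (g : G) • c = (g' : G) • c := congrArg Subtype.val e
        by_contra hne
        have h1 : (g' : G)⁻¹ * g ≠ 1 := fun h => hne (Subtype.ext (inv_mul_eq_one.1 h).symm)
        rcases hP.eq_or_eq h1 hab (Subgroup.mul_mem _ (Subgroup.inv_mem _ g'.2.1) g.2.1)
          (Subgroup.mul_mem _ (Subgroup.inv_mem _ g'.2.2) g.2.2)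
          (by rw [mul_smul, e', inv_smul_smul]) with h | h
        exacts [hca h, hcb h]
      · rw [hd a b hab, Nat.card_eq_fintype_card, Fintype.card_subtype]
        rw [show (Finset.univ.filter fun x : Ω => x ≠ a ∧ x ≠ b) = (Finset.univ.erase a).erase b by
          ext x; simp [and_comm]]
        rw [Finset.card_erase_of_mem (by simp [hab.symm]),
          Finset.card_erase_of_mem (Finset.mem_univ a), Finset.card_univ]
        omega
    obtain ⟨g, hg⟩ := hf.2 ⟨d, hda, hdb⟩
    exact ⟨g, g.2.1, g.2.2, congrArg Subtype.val hg⟩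
  refine ⟨⟨⟨fun x y => ?_⟩, fun x => ?_⟩, hreg⟩
  · have hne : ∀ (z : Fin 3 ↪ Ω) (i j : Fin 3), i ≠ j → z i ≠ z j := fun z i j h e =>
      h (z.injective e)
    obtain ⟨g, g1, g2⟩ := hP.two_trans (hne x 0 1 (by decide)) (hne y 0 1 (by decide))
    obtain ⟨h, h1, h2, h3⟩ := hreg (y 0) (y 1) (g • x 2) (y 2) (hne y 0 1 (by decide))
      (fun e => hne x 2 0 (by decide) (MulAction.injective g (e.trans g1.symm)))
      (fun e => hne x 2 1 (by decide) (MulAction.injective g (e.trans g2.symm)))
      (hne y 2 0 (by decide)) (hne y 2 1 (by decide))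
    refine ⟨h * g, ?_⟩
    ext i
    rw [Function.Embedding.smul_apply, mul_smul]
    fin_cases i
    · exact (congrArg (h • ·) g1).trans h1
    · exact (congrArg (h • ·) g2).trans h2
    · exact h3
  · rw [Subgroup.eq_bot_iff_forall]
    intro g hg
    have e : ∀ i, g • x i = x i := fun i => congrArg (fun z : Fin 3 ↪ Ω => z i) hg
    exact hP.three g (x 0) (x 1) (x 2) (fun h => absurd (x.injective h) (by decide))
      (fun h => absurd (x.injective h) (by decide)) (fun h => absurd (x.injective h) (by decide))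
      (e 0) (e 1) (e 2)

/-- A sharply three-transitive group of even degree is not simple. -/
theorem not_sharp (hP : Pre G Ω) [Fintype Ω] [IsSimpleGroup G]
    (hev : Even (Fintype.card Ω))
    (hd : ∀ a b : Ω, a ≠ b →
      Nat.card ↥(stabilizer G a ⊓ stabilizer G b) = Fintype.card Ω - 2) : False := by
  classical
  haveI := hP.finite_group
  haveI : Fact (Nat.Prime 2) := ⟨Nat.prime_two⟩
  have h3 := hP.three_le_card
  obtain ⟨hS3, hreg⟩ := hP.isS3_of_sharp hd
  obtain ⟨-, -, a, b, hab, -, -⟩ := hP.exTwo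
  obtain ⟨c, hca, hcb⟩ := hP.exists_third hab
  obtain ⟨s, sa, sb, sc⟩ : ∃ s : G, s • a = b ∧ s • b = a ∧ s • c = c := by
    obtain ⟨g, g1, g2⟩ := hP.two_trans hab hab.symm
    obtain ⟨h, h1, h2, h3⟩ := hreg a b (g • c) c hab
      (fun e => hcb (MulAction.injective g (e.trans g2.symm)))
      (fun e => hca (MulAction.injective g (e.trans g1.symm))) hca hcb
    exact ⟨h * g, by rw [mul_smul, g1, h2], by rw [mul_smul, g2, h1], by rw [mul_smul, h3]⟩
  have ss : s * s = 1 := hS3.swap_sq hab hca.symm hcb.symm sa sb sc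
  have sinv : s⁻¹ = s := inv_eq_of_mul_eq_one_right ss
  have s1 : s ≠ 1 := fun e => hab (by rw [e, one_smul] at sa; exact sa)
  set M : Subgroup G := stabilizer G a ⊓ stabilizer G b with hM
  have hMcard : Nat.card M = Fintype.card Ω - 2 := hd a b hab
  have hMev : 2 ∣ Nat.card M := by
    rw [hMcard]; obtain ⟨k, hk⟩ := hev; omega
  set v := (Nat.card M).factorization 2 with hv
  have hv1 : 1 ≤ v := Nat.Prime.factorization_pos_of_dvd Nat.prime_two Nat.card_pos.ne' hMev
  by_cases hcyc : ∃ y : M, orderOf y = 2 ^ v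
  · obtain ⟨y, hy⟩ := hcyc
    have hyG : orderOf (y : G) = 2 ^ v := by rw [Subgroup.orderOf_coe, hy]
    refine hP.false_of_odd_cycles hab (y := (y : G)) y.2.1 y.2.2 ?_
      (k := Nat.card M / 2 ^ v) ?_ ?_
    · rw [hyG]; exact Nat.even_pow.2 ⟨even_two, by omega⟩
    · rw [Nat.odd_iff, ← Nat.two_dvd_ne_zero]
      exact Nat.not_dvd_ordCompl Nat.prime_two Nat.card_pos.ne'
    · rw [hyG, ← hMcard, Nat.div_mul_cancel (Nat.ordProj_dvd _ 2)]
  push Not at hcyc
  obtain ⟨N, hN2, hNc, hNs, -⟩ :=
    hS3.exists_index_two hev h3 hab hca.symm hcb.symm sa sb sc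
  obtain ⟨t, ht⟩ := exists_prime_orderOf_dvd_card' (G := M) 2 hMev
  have tt : (t : G) * t = 1 := by
    rw [← pow_two, ← ht, ← Subgroup.orderOf_coe, pow_orderOf_eq_one]
  have t1 : (t : G) ≠ 1 := fun e => by
    rw [← Subgroup.orderOf_coe, e, orderOf_one] at ht
    omega
  have htu : ∀ x : M, x ≠ 1 → x * x = 1 → x = t := fun x hx hxx => Subtype.ext
    (hP.involution_unique hab (by rw [← Subgroup.coe_mul, hxx, Subgroup.coe_one])
      (fun h => hx (Subtype.ext h)) x.2.1 x.2.2 tt t1 t.2.1 t.2.2)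
  -- the automorphism induced by `s`
  have hsM : ∀ x : G, x ∈ M → s * x * s⁻¹ ∈ M := fun x hx =>
    conj_mem_pair (Or.inr ⟨sa, sb⟩) hx
  let σ : M →* M :=
    { toFun := fun x => ⟨s * x * s⁻¹, hsM x x.2⟩
      map_one' := Subtype.ext (by simp)
      map_mul' := fun x y => Subtype.ext (by simp only [Subgroup.coe_mul]; group) }
  have σσ : ∀ x, σ (σ x) = x := fun x => Subtype.ext (by
    show s * (s * x * s⁻¹) * s⁻¹ = x
    calc s * (s * x * s⁻¹) * s⁻¹ = (s * s) * x * (s * s)⁻¹ := by group
      _ = x := by rw [ss]; simp)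
  have σN : ∀ x ∈ N, σ x ∈ N := by
    intro x hx
    obtain ⟨y, hy, e⟩ := hNs x hx
    rwa [show σ x = y from Subtype.ext e.symm]
  have σfix : ∀ x : M, σ x = x → x = 1 ∨ x = t := by
    intro x hx
    by_contra hne
    push Not at hne
    have hfx : ∀ y : M, σ y = y → s • (y : G) • c = (y : G) • c := by
      intro y hy
      have e : s * (y : G) * s⁻¹ = y := congrArg Subtype.val hy
      rw [← mul_smul, mul_inv_eq_iff_eq_mul.1 e, mul_smul, sc]
    have hinj : ∀ y z : M, (y : G) • c = (z : G) • c → y = z := fun y z e =>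
      Subtype.ext (hS3.eq_of_three hab hca.symm hcb.symm (y.2.1.trans z.2.1.symm)
        (y.2.2.trans z.2.2.symm) e)
    have htσ : σ t = t := by
      refine htu _ (fun h => ?_) ?_
      · have h' := congrArg σ h
        rw [σσ, map_one] at h'
        exact t1 (congrArg Subtype.val h')
      · rw [← map_mul, show t * t = 1 from Subtype.ext tt, map_one]
    have p1 : ((1 : M) : G) • c ≠ (t : G) • c := fun e =>
      t1 (congrArg Subtype.val (hinj _ _ e)).symm
    rcases hP.eq_or_eq s1 p1 (hfx 1 (map_one σ)) (hfx t htσ) (hfx x hx) with h | h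
    exacts [hne.1 (hinj _ _ h), hne.2 (hinj _ _ h)]
  have hidx : ∀ x y : M, x * y ∈ N ↔ (x ∈ N ↔ y ∈ N) := fun x y =>
    Subgroup.mul_mem_iff_of_index_two hN2
  have hNσ' : ∀ x : M, σ x ∈ N ↔ x ∈ N := fun x =>
    ⟨fun h => σσ x ▸ σN _ h, σN x⟩
  haveI : Fintype M := Fintype.ofFinite M
  haveI : Fintype N := Fintype.ofFinite N
  have hNinv : ∀ n ∈ N, σ n = n⁻¹ := by
    let f : M → N := fun x => ⟨x⁻¹ * σ x, by
      rw [hidx, N.inv_mem_iff, hNσ']⟩
    have hfib : ∀ q : N, (Finset.univ.filter (fun x : M => f x = q)).card ≤ 2 := by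
      intro q
      rcases Finset.eq_empty_or_nonempty (Finset.univ.filter (fun x : M => f x = q)) with h | ⟨x, hx⟩
      · rw [h]; simp
      refine le_trans (Finset.card_le_card (t := {x, t * x}) ?_) Finset.card_le_two
      intro y hy
      simp only [Finset.mem_filter, Finset.mem_univ, true_and] at hx hy
      have e : y⁻¹ * σ y = x⁻¹ * σ x := congrArg Subtype.val (hy.trans hx.symm)
      have e2 : σ (y * x⁻¹) = y * x⁻¹ := by
        rw [map_mul, map_inv]
        calc σ y * (σ x)⁻¹ = y * (y⁻¹ * σ y) * (σ x)⁻¹ := by group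
          _ = y * (x⁻¹ * σ x) * (σ x)⁻¹ := by rw [e]
          _ = y * x⁻¹ := by group
      rcases σfix _ e2 with h | h
      · simp [mul_inv_eq_one.1 h]
      · simp [mul_inv_eq_iff_eq_mul.1 h]
    have hsurj : Function.Surjective f := by
      by_contra hns
      simp only [Function.Surjective, not_forall, not_exists] at hns
      obtain ⟨q, hq⟩ := hns
      have h1 := Finset.card_le_mul_card_image_of_maps_to (s := (Finset.univ : Finset M))
        (t := (Finset.univ : Finset N).erase q) (f := f)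
        (fun x _ => Finset.mem_erase.2 ⟨hq x, Finset.mem_univ _⟩) 2 (fun q' _ => hfib q')
      rw [Finset.card_erase_of_mem (Finset.mem_univ q), Finset.card_univ, Finset.card_univ,
        ← Nat.card_eq_fintype_card, ← Nat.card_eq_fintype_card] at h1
      have h2 : 2 * Nat.card N = Nat.card M := hN2 ▸ N.index_mul_card
      have := Nat.card_pos (α := N)
      omega
    intro n hn
    obtain ⟨x, hx⟩ := hsurj ⟨n, hn⟩
    have e : n = x⁻¹ * σ x := (congrArg Subtype.val hx).symm
    rw [e, map_mul, map_inv, σσ, mul_inv_rev, inv_inv]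
  have h4 : 2 ≤ v := by
    by_contra hlt
    have hv' : v = 1 := by omega
    exact hcyc t (by rw [ht, hv']; norm_num)
  -- the subgroup of index two is cyclic
  obtain ⟨V, hV, hVc, hHV, hfpf⟩ := hP.exists_abelian_fpf hab
  haveI := hVc
  haveI : IsMulCommutative (N.map M.subtype) := by
    constructor; constructor
    rintro ⟨_, x, hx, rfl⟩ ⟨_, y, hy, rfl⟩
    refine Subtype.ext ?_
    exact congrArg (fun z : M => (z : G)) (hNc x hx y hy)
  haveI : IsCyclic (N.map M.subtype) := CfsgLib.Frobenius.isCyclic_of_commutative_fpf hV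
    (le_trans (Subgroup.map_subtype_le N) hHV) (fun g hg => hfpf g (Subgroup.map_subtype_le N hg))
  haveI hNcyc : IsCyclic N :=
    (Subgroup.equivMapOfInjective N _ M.subtype_injective).isCyclic.2 inferInstance
  obtain ⟨e, he⟩ := hNcyc.exists_generator
  have hNcard : 2 * Nat.card N = Nat.card M := by rw [← hN2]; exact N.index_mul_card
  have hMproj : 2 ^ v ∣ Nat.card M := Nat.ordProj_dvd _ 2
  have h4dvd : 2 * 2 ∣ Nat.card M := (pow_dvd_pow 2 h4).trans hMproj
  have htN : t ∈ N := by
    obtain ⟨u, hu⟩ := exists_prime_orderOf_dvd_card' (G := N) 2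
      (Nat.dvd_of_mul_dvd_mul_left two_pos (hNcard ▸ h4dvd))
    have huu : (u : M) * u = 1 := by
      rw [← pow_two, ← hu, ← Subgroup.orderOf_coe, pow_orderOf_eq_one]
    have hu1 : (u : M) ≠ 1 := fun e => by
      rw [← Subgroup.orderOf_coe, e, orderOf_one] at hu
      omega
    exact htu _ hu1 huu ▸ u.2
  -- an element of `2`-power order outside `N`
  obtain ⟨m, hm, hm2⟩ : ∃ m : M, m ∉ N ∧ ∃ i, orderOf m = 2 ^ i := by
    obtain ⟨x, hx⟩ : ∃ x : M, x ∉ N := by
      by_contra h
      push Not at h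
      rw [(Subgroup.eq_top_iff' N).2 h, Subgroup.index_top] at hN2
      omega
    refine ⟨x ^ (orderOf x / 2 ^ (orderOf x).factorization 2), fun h => hx ?_,
      (orderOf x).factorization 2, ?_⟩
    · obtain ⟨k, hk⟩ : Odd (orderOf x / 2 ^ (orderOf x).factorization 2) := by
        rw [Nat.odd_iff, ← Nat.two_dvd_ne_zero]
        exact Nat.not_dvd_ordCompl Nat.prime_two (orderOf_pos x).ne'
      rw [hk, pow_succ, pow_mul] at h
      exact (N.mul_mem_cancel_left (N.pow_mem (Subgroup.sq_mem_of_index_two hN2 x) k)).1 h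
    · rw [orderOf_pow' x (Nat.ne_of_gt (Nat.div_pos (Nat.le_of_dvd (orderOf_pos x)
        (Nat.ordProj_dvd _ 2)) (by positivity))), Nat.gcd_eq_right (Nat.ordCompl_dvd _ 2),
        Nat.div_div_self (Nat.ordProj_dvd _ 2) (orderOf_pos x).ne']
  obtain ⟨i, hi⟩ := hm2
  have hiv : i + 1 ≤ v := by
    have h1 : i ≤ v := (Nat.prime_two.pow_dvd_iff_le_factorization Nat.card_pos.ne').1
      (hi ▸ orderOf_dvd_natCard m)
    have h2 : i ≠ v := fun h => hcyc m (h ▸ hi)
    omega
  -- inverted elements lie in `N`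
  have hinN : ∀ x : M, σ x = x⁻¹ → x ∈ N := by
    intro x hx
    by_contra hxN
    obtain ⟨z, hz, hz', j, hj, hjv⟩ : ∃ z : M, z ∉ N ∧ σ z = z⁻¹ ∧ ∃ j, orderOf z = 2 ^ j ∧ j < v := by
      refine ⟨x ^ (orderOf x / 2 ^ (orderOf x).factorization 2), fun h => hxN ?_,
        by rw [map_pow, hx, inv_pow], (orderOf x).factorization 2, ?_, ?_⟩
      · obtain ⟨k, hk⟩ : Odd (orderOf x / 2 ^ (orderOf x).factorization 2) := by
          rw [Nat.odd_iff, ← Nat.two_dvd_ne_zero]
          exact Nat.not_dvd_ordCompl Nat.prime_two (orderOf_pos x).ne'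
        rw [hk, pow_succ, pow_mul] at h
        exact (N.mul_mem_cancel_left (N.pow_mem (Subgroup.sq_mem_of_index_two hN2 x) k)).1 h
      · rw [orderOf_pow' x (Nat.ne_of_gt (Nat.div_pos (Nat.le_of_dvd (orderOf_pos x)
          (Nat.ordProj_dvd _ 2)) (by positivity))), Nat.gcd_eq_right (Nat.ordCompl_dvd _ 2),
          Nat.div_div_self (Nat.ordProj_dvd _ 2) (orderOf_pos x).ne']
      · have h1 : (orderOf x).factorization 2 ≤ v :=
          (Nat.prime_two.pow_dvd_iff_le_factorization Nat.card_pos.ne').1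
            ((Nat.ordProj_dvd _ 2).trans (orderOf_dvd_natCard x))
        refine lt_of_le_of_ne h1 fun h => ?_
        refine hcyc (x ^ (orderOf x / 2 ^ (orderOf x).factorization 2)) ?_
        rw [← h, orderOf_pow' x (Nat.ne_of_gt (Nat.div_pos (Nat.le_of_dvd (orderOf_pos x)
          (Nat.ordProj_dvd _ 2)) (by positivity))), Nat.gcd_eq_right (Nat.ordCompl_dvd _ 2),
          Nat.div_div_self (Nat.ordProj_dvd _ 2) (orderOf_pos x).ne']
    obtain ⟨j', rfl⟩ : ∃ j', j = j' + 1 := by
      refine ⟨j - 1, ?_⟩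
      rcases Nat.eq_zero_or_pos j with h0 | h0
      · exfalso
        rw [h0, pow_zero, orderOf_eq_one_iff] at hj
        exact hz (hj ▸ N.one_mem)
      · omega
    obtain ⟨l, hl⟩ := Subgroup.mem_zpowers_iff.1
      (he ⟨(z ^ 2)⁻¹, N.inv_mem (Subgroup.sq_mem_of_index_two hN2 z)⟩)
    have hl' : (e : M) ^ l = (z ^ 2)⁻¹ := by simpa using congrArg Subtype.val hl
    have heo : orderOf (e : M) = Nat.card N := by
      rw [Subgroup.orderOf_coe, orderOf_eq_card_of_forall_mem_zpowers he]
    obtain ⟨r, hr⟩ : 2 ^ (j' + 1) ∣ Nat.card N := by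
      refine Nat.dvd_of_mul_dvd_mul_left two_pos ?_
      rw [hNcard, ← pow_succ']
      exact (pow_dvd_pow 2 (by omega)).trans hMproj
    have hev' : (2 : ℤ) ∣ l := by
      have h1 : (e : M) ^ (l * ((2 ^ j' * r : ℕ) : ℤ)) = 1 := by
        rw [zpow_mul, hl', zpow_natCast, inv_pow, ← pow_mul, ← mul_assoc, ← pow_succ',
          pow_mul, ← hj, pow_orderOf_eq_one, one_pow, inv_one]
      rw [← orderOf_dvd_iff_zpow_eq_one, heo, hr] at h1
      have h2 : 0 < 2 ^ j' * r := by
        have := Nat.card_pos (α := N)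
        rw [hr] at this
        rcases Nat.eq_zero_or_pos r with h0 | h0
        · simp [h0] at this
        · positivity
      have h5 : ((2 : ℕ) : ℤ) * ((2 ^ j' * r : ℕ) : ℤ) ∣ l * ((2 ^ j' * r : ℕ) : ℤ) := by
        have : (2 : ℕ) * (2 ^ j' * r) = 2 ^ (j' + 1) * r := by ring
        rwa [← Int.natCast_mul, this]
      exact Int.dvd_of_mul_dvd_mul_right (by exact_mod_cast h2.ne') h5
    obtain ⟨h, rfl⟩ := hev'
    set n : M := (e : M) ^ h with hn
    have hnN : n ∈ N := N.zpow_mem e.2 h
    have hnn : n * n * (z * z) = 1 := by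
      rw [hn, ← zpow_add, ← two_mul, hl', pow_two, inv_mul_cancel]
    have hfix : σ (n * z) = n * z := by
      rw [map_mul, hNinv n hnN, hz', inv_mul_eq_iff_eq_mul, ← mul_assoc, eq_comm,
        eq_inv_iff_mul_eq_one, mul_assoc]
      exact hnn
    have hmem : n * z ∈ N := by
      rcases σfix _ hfix with h0 | h0 <;> rw [h0]
      exacts [N.one_mem, htN]
    exact hz (((hidx n z).1 hmem).1 hnN)
  -- the centraliser of `t` and its subgroup of index two
  set C : Subgroup G := Subgroup.centralizer {(t : G)} with hC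
  have hCmem : ∀ g : G, g ∈ C ↔ ((g • a = a ∧ g • b = b) ∨ (g • a = b ∧ g • b = a)) := by
    intro g
    rw [hC, Subgroup.mem_centralizer_singleton_iff]
    constructor
    · intro h
      exact hP.pair_of_conj hab t.2 t1 (by rw [h, mul_inv_cancel_right]; exact t.2)
    · intro h
      have hm := conj_mem_pair h t.2
      have := htu ⟨_, hm⟩ (fun h' => t1 (by simpa [mul_inv_eq_one] using congrArg Subtype.val h'))
        (Subtype.ext (show g * t * g⁻¹ * (g * t * g⁻¹) = 1 by
          calc g * t * g⁻¹ * (g * t * g⁻¹) = g * (t * t : G) * g⁻¹ := by group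
            _ = 1 := by rw [tt, mul_one, mul_inv_cancel]))
      exact mul_inv_eq_iff_eq_mul.1 (congrArg Subtype.val this)
  have hNG : ∀ {x : G}, x ∈ N.map M.subtype → x ∈ M := fun hx => Subgroup.map_subtype_le N hx
  have hNsG : ∀ x ∈ N.map M.subtype, s * x * s = x⁻¹ := by
    rintro _ ⟨x, hx, rfl⟩
    have := congrArg Subtype.val (hNinv x hx)
    nth_rw 2 [← sinv]
    exact this
  set NG := N.map M.subtype with hNGdef
  let K : Subgroup G :=
    { carrier := {g | g ∈ NG ∨ g * s ∈ NG}
      one_mem' := Or.inl NG.one_mem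
      mul_mem' := by
        rintro g g' (hg | hg) (hg' | hg')
        · exact Or.inl (NG.mul_mem hg hg')
        · exact Or.inr (by rw [mul_assoc]; exact NG.mul_mem hg hg')
        · refine Or.inr ?_
          have := hNsG g' hg'
          have e : g * g' * s = (g * s) * (s * g' * s) := by
            calc g * g' * s = g * (s * s) * g' * s := by rw [ss, mul_one]
              _ = _ := by group
          rw [e, this]
          exact NG.mul_mem hg (NG.inv_mem hg')
        · refine Or.inl ?_
          have := hNsG _ hg'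
          have e : g * g' = (g * s) * (s * (g' * s) * s) := by
            calc g * g' = g * (s * s) * g' * (s * s) := by rw [ss, mul_one, mul_one]
              _ = _ := by group
          rw [e, this]
          exact NG.mul_mem hg (NG.inv_mem hg')
      inv_mem' := by
        rintro g (hg | hg)
        · exact Or.inl (NG.inv_mem hg)
        · refine Or.inr ?_
          have := hNsG _ hg
          have e : g⁻¹ * s = s * (g * s)⁻¹ * s := by
            rw [mul_inv_rev, sinv, ← mul_assoc, ss, one_mul]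
          rw [e]
          have h2 := hNsG _ (NG.inv_mem hg)
          rw [h2, inv_inv]
          exact hg }
  have hKmem : ∀ g, g ∈ K ↔ (g ∈ NG ∨ g * s ∈ NG) := fun g => Iff.rfl
  have hKM : ∀ x : M, (x : G) ∈ K ↔ x ∈ N := by
    intro x
    rw [hKmem]
    constructor
    · rintro (⟨y, hy, e⟩ | h)
      · rwa [← show y = x from Subtype.ext e]
      · exfalso
        have h1 : ((x : G) * s) • a = a := (hNG h).1
        rw [mul_smul, sa] at h1
        exact hab (h1.symm.trans x.2.2)
    · exact fun h => Or.inl ⟨x, h, rfl⟩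
  have hsC : s ∈ C := (hCmem s).2 (Or.inr ⟨sa, sb⟩)
  have hMC : ∀ x : M, (x : G) ∈ C := fun x => (hCmem x).2 (Or.inl x.2)
  have hsK : s ∈ K := Or.inr (by rw [ss]; exact NG.one_mem)
  have hKi : K.relIndex C = 2 := by
    rw [Subgroup.relIndex, Subgroup.index_eq_two_iff]
    refine ⟨⟨(m : G), hMC m⟩, fun g => ?_⟩
    simp only [Subgroup.mem_subgroupOf, Subgroup.coe_mul]
    have hor : ∃ (x : M) (r : G), r ∈ K ∧ (g : G) = x * r ∧ (r = 1 ∨ r = s) := by
      rcases (hCmem g).1 g.2 with h | h
      · exact ⟨⟨g, h⟩, 1, K.one_mem, (mul_one _).symm, Or.inl rfl⟩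
      · refine ⟨⟨(g : G) * s, ?_, ?_⟩, s, hsK, by simp [mul_assoc, ss], Or.inr rfl⟩
        · show ((g : G) * s) • a = a
          rw [mul_smul, sa, h.2]
        · show ((g : G) * s) • b = b
          rw [mul_smul, sb, h.1]
    obtain ⟨x, r, hr, hg, hr'⟩ := hor
    have e1 : (g : G) ∈ K ↔ x ∈ N := by
      rw [hg, K.mul_mem_cancel_right hr, hKM]
    have e2 : (g : G) * m ∈ K ↔ ¬ x ∈ N := by
      have e3 : r * m = (if r = 1 then (m : G) else ((σ m : M) : G)) * r := by
        rcases hr' with h | h <;> rw [h]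
        · simp
        · rw [if_neg s1]
          show s * (m : G) = s * m * s⁻¹ * s
          group
      rw [hg, mul_assoc, e3, ← mul_assoc, K.mul_mem_cancel_right hr]
      rcases hr' with h | h <;> rw [h]
      · rw [if_pos rfl, ← Subgroup.coe_mul, hKM, hidx]
        simp [hm]
      · rw [if_neg s1, ← Subgroup.coe_mul, hKM, hidx, hNσ']
        simp [hm]
    rw [e1, e2]
    by_cases hx : x ∈ N <;> simp [Xor, hx]
  have hCi : Odd C.index := by
    have hCM : M.relIndex C = 2 := by
      rw [Subgroup.relIndex, Subgroup.index_eq_two_iff]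
      refine ⟨⟨s, hsC⟩, fun g => ?_⟩
      simp only [Subgroup.mem_subgroupOf, Subgroup.coe_mul, hM, Subgroup.mem_inf,
        mem_stabilizer_iff, mul_smul, sa, sb]
      rcases (hCmem g).1 g.2 with ⟨h1, h2⟩ | ⟨h1, h2⟩ <;> simp [Xor, h1, h2, hab, hab.symm]
    have hle : M ≤ C := fun x hx => hMC ⟨x, hx⟩
    have h5 := M.index_mul_card
    rw [← Subgroup.relIndex_mul_index hle, hCM, hP.card_eq hab] at h5
    have h6 : 2 * C.index = Fintype.card Ω * (Fintype.card Ω - 1) :=
      Nat.eq_of_mul_eq_mul_right Nat.card_pos h5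
    have h7 : 4 ∣ Fintype.card Ω - 2 := hMcard ▸ h4dvd
    obtain ⟨k, hk⟩ := h7
    have hn' : Fintype.card Ω = 4 * k + 2 := by omega
    rw [hn'] at h6
    refine ⟨4 * k * k + 3 * k, ?_⟩
    have : (4 * k + 2) * (4 * k + 2 - 1) = 2 * (2 * (4 * k * k + 3 * k) + 1) := by
      rw [show 4 * k + 2 - 1 = 4 * k + 1 by omega]; ring
    omega
  -- conjugates of powers of `m` inside `C`
  have hmC : (m : G) ∈ C := hMC m
  have key : ∀ (g : G) (k : ℕ), g * (m : G) ^ k * g⁻¹ ∈ C →
      (g * (m : G) ^ k * g⁻¹ ∈ K ↔ Even k) := by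
    intro g k hgC
    have hmk : m ^ k ∈ N ↔ Even k := by
      clear hgC
      induction k with
      | zero => simp
      | succ k ih => rw [pow_succ, hidx, Nat.even_add_one]; simp [hm, ih]
    by_cases h1 : m ^ k = 1
    · have e : (m : G) ^ k = 1 := by rw [← Subgroup.coe_pow, h1, Subgroup.coe_one]
      rw [e, mul_one, mul_inv_cancel]
      exact iff_of_true K.one_mem (hmk.1 (h1 ▸ N.one_mem))
    have hgt : g ∈ C → (g * (m : G) ^ k * g⁻¹ ∈ K ↔ Even k) := by
      intro hg
      rw [← hmk, ← hKM, Subgroup.coe_pow]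
      have hn : (K.subgroupOf C).Normal := Subgroup.normal_of_index_eq_two hKi
      constructor
      · intro h
        have h' := hn.conj_mem ⟨g * (m : G) ^ k * g⁻¹, hgC⟩ h (⟨g, hg⟩⁻¹)
        simpa [Subgroup.mem_subgroupOf, mul_assoc] using h'
      · intro h
        exact hn.conj_mem ⟨(m : G) ^ k, C.pow_mem hmC k⟩ h ⟨g, hg⟩
    obtain ⟨j, hj⟩ : ∃ j, orderOf (m ^ k) = 2 ^ (j + 1) := by
      obtain ⟨j, hjle, hj⟩ := (Nat.dvd_prime_pow Nat.prime_two).1
        (hi ▸ orderOf_pow_dvd (x := m) k)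
      refine ⟨j - 1, ?_⟩
      rcases Nat.eq_zero_or_pos j with h0 | h0
      · rw [h0, pow_zero, orderOf_eq_one_iff] at hj
        exact absurd hj h1
      · rw [hj]; congr 1; omega
    set z := m ^ k with hz
    have hzt : z ^ 2 ^ j = t := by
      refine htu _ (pow_ne_one_of_lt_orderOf (pow_ne_zero _ two_ne_zero)
        (by rw [hj]; exact Nat.pow_lt_pow_right (by norm_num) (by omega))) ?_
      rw [← pow_add, show 2 ^ j + 2 ^ j = orderOf z by rw [hj, pow_succ]; ring, pow_orderOf_eq_one]
    set u := g * (t : G) * g⁻¹ with hu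
    have hw : (g * (m : G) ^ k * g⁻¹) ^ 2 ^ j = u := by
      rw [conj_pow, ← Subgroup.coe_pow, ← hz, ← Subgroup.coe_pow, hzt]
    have huu : u * u = 1 := by
      calc u * u = g * (t * t : G) * g⁻¹ := by rw [hu]; group
        _ = 1 := by rw [tt, mul_one, mul_inv_cancel]
    have hu1 : u ≠ 1 := fun h => t1 (by simpa [hu, mul_inv_eq_one] using h)
    rcases Nat.eq_zero_or_pos j with h0 | h0
    · subst h0
      rw [pow_zero, pow_one] at hw
      have hz2 : z * z = 1 := by
        rw [← pow_two, show (2 : ℕ) = orderOf z by rw [hj]; norm_num, pow_orderOf_eq_one]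
      have hzt' : z = t := htu z h1 hz2
      have hk : Even k := hmk.1 (hzt' ▸ htN)
      refine iff_of_true ?_ hk
      rw [hw] at hgC ⊢
      rcases (hCmem u).1 hgC with h | h
      · have : (⟨u, h⟩ : M) = t := htu _ (fun e => hu1 (congrArg Subtype.val e)) (Subtype.ext huu)
        have e' : u = (t : G) := congrArg Subtype.val this
        rw [e', hKM]; exact htN
      · refine Or.inr ?_
        have hxM : u * s ∈ M :=
          ⟨by show (u * s) • a = a; rw [mul_smul, sa, h.2], by
            show (u * s) • b = b; rw [mul_smul, sb, h.1]⟩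
        have hinv : σ ⟨_, hxM⟩ = (⟨_, hxM⟩ : M)⁻¹ := Subtype.ext (by
          show s * (u * s) * s⁻¹ = (u * s)⁻¹
          rw [mul_inv_rev, sinv, show u⁻¹ = u from inv_eq_of_mul_eq_one_right huu]
          rw [mul_assoc, mul_assoc u s s, ss, mul_one])
        exact ⟨_, hinN _ hinv, rfl⟩
    · -- `u` is a square in `C`, so lies in `M`
      refine hgt ((hCmem g).2 ?_)
      set w := (g * (m : G) ^ k * g⁻¹) ^ 2 ^ (j - 1) with hwdef
      have hwC : w ∈ C := C.pow_mem hgC _
      have hwu : w * w = u := by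
        rw [hwdef, ← pow_add, ← hw]
        congr 1
        rw [← two_mul, ← pow_succ']; congr 1; omega
      have huM : u ∈ M := by
        rw [← hwu]
        rcases (hCmem w).1 hwC with h | h
        · exact M.mul_mem h h
        · exact ⟨by show (w * w) • a = a; rw [mul_smul, h.1, h.2], by
            show (w * w) • b = b; rw [mul_smul, h.2, h.1]⟩
      have hut := htu ⟨u, huM⟩ (fun e => hu1 (congrArg Subtype.val e)) (Subtype.ext huu)
      have e : g * (t : G) * g⁻¹ = t := congrArg Subtype.val hut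
      exact hP.pair_of_conj hab t.2 t1 (e.symm ▸ t.2)
  -- transfer
  let φ : C →* ℤˣ := CfsgLib.ThompsonTransfer.indexTwoSign (K.subgroupOf C) hKi
  let τ : G →* ℤˣ := MonoidHom.transfer φ
  have hτ : τ (m : G) = -1 := by
    let := C.fintypeQuotientOfFiniteIndex
    show MonoidHom.transfer φ (m : G) = -1
    rw [MonoidHom.transfer_eq_prod_quotient_orbitRel_zpowers_quot]
    have hterm : ∀ q : Quotient (orbitRel (Subgroup.zpowers (m : G)) (G ⧸ C)),
        φ ⟨q.out.out⁻¹ * (m : G) ^ Function.minimalPeriod ((m : G) • ·) q.out * q.out.out,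
            QuotientGroup.out_conj_pow_minimalPeriod_mem C (m : G) q.out⟩ =
          (-1 : ℤˣ) ^ Function.minimalPeriod ((m : G) • ·) q.out := by
      intro q
      set k := Function.minimalPeriod ((m : G) • ·) q.out with hk
      have hk' := key (q.out.out)⁻¹ k
      rw [inv_inv] at hk'
      have hmem : q.out.out⁻¹ * (m : G) ^ k * q.out.out ∈ C :=
        QuotientGroup.out_conj_pow_minimalPeriod_mem C (m : G) q.out
      rcases Nat.even_or_odd k with hp | hp
      · rw [hp.neg_one_pow]
        show (if _ then (1 : ℤˣ) else -1) = 1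
        exact if_pos (Subgroup.mem_subgroupOf.2 ((hk' hmem).2 hp))
      · rw [hp.neg_one_pow]
        show (if _ then (1 : ℤˣ) else -1) = -1
        exact if_neg fun h => Nat.not_even_iff_odd.2 hp ((hk' hmem).1 (Subgroup.mem_subgroupOf.1 h))
    rw [Finset.prod_congr rfl (fun q _ => hterm q), Finset.prod_pow_eq_pow_sum,
      ← Subgroup.index_eq_sum_minimalPeriod C (m : G)]
    exact hCi.neg_one_pow
  rcases (MonoidHom.normal_ker τ).eq_bot_or_eq_top with h | h
  · have hinj' : Function.Injective τ := (MonoidHom.ker_eq_bot_iff τ).1 h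
    have h2 := Nat.card_le_card_of_injective _ hinj'
    rw [Nat.card_eq_fintype_card (α := ℤˣ), Fintype.card_units_int, hP.card_eq hab] at h2
    have h6 : 3 * 2 ≤ Fintype.card Ω * (Fintype.card Ω - 1) := Nat.mul_le_mul h3 (by omega)
    have h7 := Nat.le_mul_of_pos_right (Fintype.card Ω * (Fintype.card Ω - 1))
      (show 0 < Nat.card ↥(stabilizer G a ⊓ stabilizer G b) from Nat.card_pos)
    omega
  · have : τ (m : G) = 1 := (MonoidHom.mem_ker).1 (h ▸ Subgroup.mem_top (m : G))
    rw [hτ] at this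
    exact absurd this (by decide)

end CfsgLib.Zass.Pre
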