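import Cfsg.Prelude.Def_LieExceptional
import Cfsg.Agent.Lib.Frobenius.Theorem
import Cfsg.Agent.Lib.Frobenius.Complement
import Mathlib.GroupTheory.GroupAction.MultipleTransitivity
import Mathlib.GroupTheory.FixedPointFree

/-!
# Doubly transitive groups in which only the identity fixes three points

Point stabilisers are Frobenius groups; their kernels act regularly on the remaining points.
-/

set_option autoImplicit false
set_option linter.style.haveILetI false
set_option linter.unusedSectionVars false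

open scoped Pointwise
open MulAction

namespace CfsgLib.Zass

/-- Faithful, doubly transitive, no nontrivial element fixes three points, some fixes two. -/
structure Pre (G Ω : Type*) [Group G] [MulAction G Ω] : Prop where
  faithful : FaithfulSMul G Ω
  two : MulAction.IsMultiplyPretransitive G Ω 2
  three : ∀ g : G, ∀ a b c : Ω, a ≠ b → b ≠ c → a ≠ c → g • a = a → g • b = b → g • c = c → g = 1
  exTwo : ∃ g : G, g ≠ 1 ∧ ∃ a b : Ω, a ≠ b ∧ g • a = a ∧ g • b = b

theorem Pre.of {G Ω : Type*} [Group G] [MulAction G Ω] (hZ : Cfsg.IsZassenhausGroup G Ω) :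
    Pre G Ω :=
  ⟨hZ.1, hZ.2.1, hZ.2.2.1, hZ.2.2.2.1⟩

variable {G Ω : Type*} [Group G] [MulAction G Ω]

namespace Pre

theorem two_trans (hP : Pre G Ω) {a b c d : Ω} (hab : a ≠ b) (hcd : c ≠ d) :
    ∃ g : G, g • a = c ∧ g • b = d :=
  (MulAction.is_two_pretransitive_iff.1 hP.two) hab hcd

theorem finite_group (hP : Pre G Ω) [Finite Ω] : Finite G := by
  haveI := hP.faithful
  exact Finite.of_injective (fun g : G => fun x : Ω => g • x) fun g g' h =>
    eq_of_smul_eq_smul (α := Ω) fun x => congrFun h x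

theorem exists_two_fix (hP : Pre G Ω) {a b : Ω} (hab : a ≠ b) :
    ∃ g : G, g ≠ 1 ∧ g • a = a ∧ g • b = b := by
  obtain ⟨g, hg, c, d, hcd, hc, hd⟩ := hP.exTwo
  obtain ⟨x, hxc, hxd⟩ := hP.two_trans hcd hab
  refine ⟨x * g * x⁻¹, by simpa [mul_inv_eq_one] using hg, ?_, ?_⟩
  · rw [← hxc, mul_smul, mul_smul, inv_smul_smul, hc]
  · rw [← hxd, mul_smul, mul_smul, inv_smul_smul, hd]

theorem eq_or_eq (hP : Pre G Ω) {g : G} (hg : g ≠ 1) {a b c : Ω} (hab : a ≠ b)
    (ha : g • a = a) (hb : g • b = b) (hc : g • c = c) : c = a ∨ c = b := by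
  by_contra h
  push Not at h
  exact hg (hP.three g a b c hab (Ne.symm h.2) (Ne.symm h.1) ha hb hc)

theorem exists_third (hP : Pre G Ω) {a b : Ω} (hab : a ≠ b) : ∃ c, c ≠ a ∧ c ≠ b := by
  obtain ⟨g, hg, ha, hb⟩ := hP.exists_two_fix hab
  haveI := hP.faithful
  by_contra h
  push Not at h
  refine hg (eq_of_smul_eq_smul (α := Ω) fun x => ?_)
  rw [one_smul]
  by_cases hx : x = a
  · rw [hx, ha]
  · rw [h x hx, hb]

theorem three_le_card [Fintype Ω] (hP : Pre G Ω) : 3 ≤ Fintype.card Ω := by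
  classical
  obtain ⟨g, -, a, b, hab, -, -⟩ := hP.exTwo
  obtain ⟨c, hca, hcb⟩ := hP.exists_third hab
  calc 3 = ({c, a, b} : Finset Ω).card := by
        rw [Finset.card_insert_of_notMem (by simp [hca, hcb]), Finset.card_pair hab]
    _ ≤ _ := Finset.card_le_univ _

theorem exists_ne (hP : Pre G Ω) (a : Ω) : ∃ b, b ≠ a := by
  obtain ⟨g, -, c, d, hcd, -, -⟩ := hP.exTwo
  by_cases h : c = a
  · exact ⟨d, fun e => hcd (h.trans e.symm)⟩
  · exact ⟨c, h⟩

theorem transitive (hP : Pre G Ω) (a c : Ω) : ∃ g : G, g • a = c := by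
  obtain ⟨b, hb⟩ := hP.exists_ne a
  obtain ⟨d, hd⟩ := hP.exists_ne c
  obtain ⟨g, h1, -⟩ := hP.two_trans hb.symm hd.symm
  exact ⟨g, h1⟩

/-- The stabiliser of two points, as a subgroup of the stabiliser of the first one, is a
Frobenius complement. -/
theorem isFrobeniusComplement (hP : Pre G Ω) {a b : Ω} (hab : a ≠ b) :
    Cfsg.IsFrobeniusComplement
      ((stabilizer G a ⊓ stabilizer G b).subgroupOf (stabilizer G a)) := by
  refine ⟨?_, ?_, ?_⟩
  · obtain ⟨g, hg, ha, hb⟩ := hP.exists_two_fix hab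
    intro h
    have : (⟨g, ha⟩ : stabilizer G a) ∈ (stabilizer G a ⊓ stabilizer G b).subgroupOf (stabilizer G a) :=
      Subgroup.mem_subgroupOf.2 ⟨ha, hb⟩
    rw [h, Subgroup.mem_bot] at this
    exact hg (congrArg Subtype.val this)
  · obtain ⟨c, hca, hcb⟩ := hP.exists_third hab
    obtain ⟨g, g1, g2⟩ := hP.two_trans hab hca.symm
    intro h
    have : (⟨g, g1⟩ : stabilizer G a) ∈ (stabilizer G a ⊓ stabilizer G b).subgroupOf (stabilizer G a) := by
      rw [h]; exact Subgroup.mem_top _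
    exact hcb (g2.symm.trans (Subgroup.mem_subgroupOf.1 this).2)
  · rintro ⟨g, hga⟩ hg
    rw [Subgroup.eq_bot_iff_forall]
    rintro ⟨x, hxa⟩ hx
    obtain ⟨hx1, hx2⟩ := Subgroup.mem_inf.1 hx
    have hxb : x • b = b := (Subgroup.mem_subgroupOf.1 hx1).2
    have h2 := (Subgroup.mem_subgroupOf.1 (CfsgLib.Frobenius.mem_conjSMul_iff.1 hx2)).2
    have h3 : x • g • b = g • b := by
      simpa [mul_smul, inv_smul_eq_iff] using h2
    by_contra hne
    rcases hP.eq_or_eq (fun h => hne (Subtype.ext h)) hab hxa hxb h3 with h | h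
    · refine hab (MulAction.injective g ?_)
      exact (show g • a = a from hga).trans h.symm
    · exact hg (Subgroup.mem_subgroupOf.2 ⟨hga, h⟩)

/-- The kernel of a point stabiliser. -/
structure IsKernel (a : Ω) (K : Subgroup G) : Prop where
  le : ∀ k ∈ K, k • a = a
  conj_mem : ∀ g : G, g • a = a → ∀ k ∈ K, g * k * g⁻¹ ∈ K
  fix : ∀ k ∈ K, k ≠ 1 → ∀ c : Ω, k • c = c → c = a
  regular : ∀ y z : Ω, y ≠ a → z ≠ a → ∃ k ∈ K, k • y = z
  mem : ∀ g : G, g • a = a → (∀ c : Ω, g • c = c → c = a) → g ∈ K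

theorem exists_kernel (hP : Pre G Ω) [Finite Ω] (a : Ω) : ∃ K : Subgroup G, IsKernel a K := by
  haveI := hP.finite_group
  haveI := Fintype.ofFinite Ω
  haveI : Fintype (stabilizer G a) := Fintype.ofFinite _
  obtain ⟨b, hb⟩ := hP.exists_ne a
  have hF := hP.isFrobeniusComplement hb.symm
  obtain ⟨N, hN, hNn, hNc⟩ := CfsgLib.Frobenius.exists_kernel_subgroup hF
  have hmem : ∀ x : stabilizer G a, x ∈ N ↔
      ((x : G) = 1 ∨ ∀ c : Ω, (x : G) • c = c → c = a) := by
    intro x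
    rw [← SetLike.mem_coe, hN]
    constructor
    · rintro (rfl | h)
      · exact Or.inl rfl
      · refine Or.inr fun c hc => ?_
        by_contra hca
        obtain ⟨g, g1, g2⟩ := hP.two_trans hb.symm (Ne.symm hca)
        refine h ⟨g, g1⟩ (CfsgLib.Frobenius.mem_conjSMul_iff.2 ?_)
        have h1 : g⁻¹ • a = a := by rw [inv_smul_eq_iff, g1]
        have h2 : g⁻¹ • c = b := by rw [inv_smul_eq_iff, g2]
        refine Subgroup.mem_subgroupOf.2 ⟨?_, ?_⟩
        · simp [mem_stabilizer_iff, mul_smul, h1, g1, show (x : G) • a = a from x.2]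
        · simp [mem_stabilizer_iff, mul_smul, h2, g2, hc]
    · rintro (h | h)
      · exact Or.inl (Subtype.ext h)
      · refine Or.inr fun g hg => ?_
        have h2 := (Subgroup.mem_subgroupOf.1 (CfsgLib.Frobenius.mem_conjSMul_iff.1 hg)).2
        have h3 : (x : G) • (g : G) • b = (g : G) • b := by
          simpa [mul_smul, inv_smul_eq_iff] using h2
        refine hb (MulAction.injective (g : G) ?_)
        exact (h _ h3).trans (show (g : G) • a = a from g.2).symm
  have hfix : ∀ k ∈ N.map (stabilizer G a).subtype, k ≠ 1 → ∀ c : Ω, k • c = c → c = a := by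
    rintro _ ⟨x, hx, rfl⟩ h1
    exact ((hmem x).1 hx).resolve_left h1
  refine ⟨N.map (stabilizer G a).subtype, ?_, ?_, hfix, ?_, ?_⟩
  · rintro _ ⟨x, -, rfl⟩
    exact x.2
  · rintro g hg _ ⟨x, hx, rfl⟩
    exact ⟨⟨g, hg⟩ * x * ⟨g, hg⟩⁻¹, hNn.conj_mem x hx ⟨g, hg⟩, rfl⟩
  · intro y z hy hz
    obtain ⟨g, g1, g2⟩ := hP.two_trans hb.symm (Ne.symm hy)
    obtain ⟨f, f1, f2⟩ := hP.two_trans hb.symm (Ne.symm hz)
    obtain ⟨⟨⟨n, hn⟩, ⟨e, he⟩⟩, hne⟩ := hNc.2 ⟨g, g1⟩
    obtain ⟨⟨⟨n', hn'⟩, ⟨e', he'⟩⟩, hne'⟩ := hNc.2 ⟨f, f1⟩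
    have eb : (e : G) • b = b := (Subgroup.mem_subgroupOf.1 he).2
    have eb' : (e' : G) • b = b := (Subgroup.mem_subgroupOf.1 he').2
    have q1 : g = (n : G) * e := (congrArg Subtype.val hne).symm
    have q2 : f = (n' : G) * e' := (congrArg Subtype.val hne').symm
    rw [q1, mul_smul, eb] at g2
    rw [q2, mul_smul, eb'] at f2
    refine ⟨((n' * n⁻¹ : stabilizer G a) : G), ⟨_, N.mul_mem hn' (N.inv_mem hn), rfl⟩, ?_⟩
    rw [← g2, Subgroup.coe_mul, Subgroup.coe_inv, mul_smul, inv_smul_smul, f2]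
  · intro g hg h
    exact ⟨⟨g, hg⟩, (hmem _).2 (Or.inr h), rfl⟩

theorem IsKernel.inj {a : Ω} {K : Subgroup G} (hK : IsKernel a K) {y : Ω} (hy : y ≠ a)
    {k k' : G} (hk : k ∈ K) (hk' : k' ∈ K) (h : k • y = k' • y) : k = k' := by
  by_contra hne
  refine hy (hK.fix _ (K.mul_mem (K.inv_mem hk') hk) ?_ y ?_)
  · exact fun e => hne (inv_mul_eq_one.1 e).symm
  · rw [mul_smul, h, inv_smul_smul]

theorem IsKernel.card {a : Ω} {K : Subgroup G} [Fintype Ω] (hP : Pre G Ω) (hK : IsKernel a K) :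
    Nat.card K + 1 = Fintype.card Ω := by
  classical
  obtain ⟨b, hb⟩ := hP.exists_ne a
  have hne : ∀ k : K, (k : G) • b ≠ a := fun k h =>
    hb (MulAction.injective (k : G) (h.trans (hK.le k k.2).symm))
  have e : Nat.card K = Nat.card {z : Ω // z ≠ a} := by
    refine Nat.card_congr (Equiv.ofBijective (fun k : K => ⟨(k : G) • b, hne k⟩) ⟨?_, ?_⟩)
    · intro k k' h
      exact Subtype.ext (hK.inj hb k.2 k'.2 (congrArg Subtype.val h))
    · intro z
      obtain ⟨k, hk, hkz⟩ := hK.regular b z hb z.2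
      exact ⟨⟨k, hk⟩, Subtype.ext hkz⟩
  rw [e, Nat.card_eq_fintype_card, Fintype.card_subtype_compl, Fintype.card_subtype_eq]
  have := hP.three_le_card
  omega

/-- A two-point stabiliser element commuting with a kernel element is trivial, or the kernel
element is. -/
theorem IsKernel.eq_one_of_commute (hP : Pre G Ω) {a b : Ω} {K : Subgroup G} (hK : IsKernel a K)
    (hb : b ≠ a) {h : G} (hha : h • a = a) (hhb : h • b = b) (h1 : h ≠ 1) {k : G} (hk : k ∈ K)
    (hc : h * k = k * h) : k = 1 := by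
  have e : h • k • b = k • b := by rw [← mul_smul, hc, mul_smul, hhb]
  by_contra hk1
  rcases hP.eq_or_eq h1 hb.symm hha hhb e with e' | e'
  · exact hb (MulAction.injective k (e'.trans (hK.le k hk).symm))
  · exact hb (hK.fix k hk hk1 b e')

/-- Every kernel element is a commutator with a given nontrivial element of a two-point
stabiliser. -/
theorem IsKernel.exists_commutator [Finite G] (hP : Pre G Ω) {a b : Ω} {K : Subgroup G}
    (hK : IsKernel a K) (hb : b ≠ a) {h : G} (hha : h • a = a) (hhb : h • b = b) (h1 : h ≠ 1)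
    {k : G} (hk : k ∈ K) : ∃ x ∈ K, h * x * h⁻¹ * x⁻¹ = k := by
  let f : K → K := fun x => ⟨h * x * h⁻¹ * (x : G)⁻¹,
    K.mul_mem (hK.conj_mem h hha x x.2) (K.inv_mem x.2)⟩
  have hf : Function.Injective f := by
    intro x y e
    have e' : h * x * h⁻¹ * (x : G)⁻¹ = h * y * h⁻¹ * (y : G)⁻¹ := congrArg Subtype.val e
    have hy : h * ((y : G)⁻¹ * x) = ((y : G)⁻¹ * x) * h := by
      calc h * ((y : G)⁻¹ * x)
          = (h * y * h⁻¹)⁻¹ * (h * x * h⁻¹ * (x : G)⁻¹) * x * h := by group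
        _ = (h * y * h⁻¹)⁻¹ * (h * y * h⁻¹ * (y : G)⁻¹) * x * h := by rw [e']
        _ = ((y : G)⁻¹ * x) * h := by group
    exact Subtype.ext (inv_mul_eq_one.1
      (hK.eq_one_of_commute hP hb hha hhb h1 (K.mul_mem (K.inv_mem y.2) x.2) hy)).symm
  obtain ⟨x, hx⟩ := Finite.surjective_of_injective hf ⟨k, hk⟩
  exact ⟨x, x.2, congrArg Subtype.val hx⟩

/-- Every element of a point stabiliser is a kernel element times an element fixing a further
given point. -/
theorem IsKernel.exists_factor {a b : Ω} {K : Subgroup G} (hK : IsKernel a K) (hb : b ≠ a)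
    {g : G} (hg : g • a = a) :
    ∃ k ∈ K, (k⁻¹ * g) • a = a ∧ (k⁻¹ * g) • b = b := by
  have hgb : g • b ≠ a := fun h => hb (MulAction.injective g (h.trans hg.symm))
  obtain ⟨k, hk, hkb⟩ := hK.regular b (g • b) hb hgb
  refine ⟨k, hk, ?_, ?_⟩
  · rw [mul_smul, hg, inv_smul_eq_iff, hK.le k hk]
  · rw [mul_smul, inv_smul_eq_iff, hkb]

theorem card_fix_le_two (hP : Pre G Ω) [Finite Ω] {s : G} (hs : s ≠ 1) :
    Nat.card (fixedBy Ω s) ≤ 2 := by
  classical
  haveI := Fintype.ofFinite Ω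
  by_contra h
  push Not at h
  rw [Nat.card_eq_fintype_card] at h
  obtain ⟨x, y, z, hxy, hxz, hyz⟩ := Fintype.two_lt_card_iff.1 h
  rcases hP.eq_or_eq hs (fun e => hxy (Subtype.ext e)) x.2 y.2 z.2 with e | e
  · exact hxz (Subtype.ext e.symm)
  · exact hyz (Subtype.ext e.symm)

theorem card_fix_mod_two [Fintype Ω] {s : G} (ss : s * s = 1) :
    Nat.card (fixedBy Ω s) % 2 = Fintype.card Ω % 2 := by
  classical
  haveI : Fact (Nat.Prime 2) := ⟨Nat.prime_two⟩
  have hm := Equiv.Perm.card_compl_support_modEq (p := 2) (n := 1)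
    (σ := (MulAction.toPerm s : Equiv.Perm Ω)) (Equiv.ext fun z => by
      simp [pow_two, ← mul_smul, ss])
  rw [Nat.card_eq_fintype_card,
    Fintype.card_of_subtype (MulAction.toPerm s : Equiv.Perm Ω).supportᶜ]
  · exact hm
  · intro x
    simp [Equiv.Perm.mem_support]

/-- In odd degree an involution fixes exactly one point. -/
theorem exists_unique_fix (hP : Pre G Ω) [Fintype Ω] (hodd : Odd (Fintype.card Ω)) {s : G}
    (ss : s * s = 1) (hs : s ≠ 1) : ∃ c : Ω, s • c = c ∧ ∀ d : Ω, s • d = d → d = c := by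
  have h1 := hP.card_fix_le_two hs
  have h2 := card_fix_mod_two (Ω := Ω) ss
  rw [Nat.odd_iff.1 hodd] at h2
  have h : Nat.card (fixedBy Ω s) = 1 := by omega
  obtain ⟨hu, ⟨c, hc⟩⟩ := Nat.card_eq_one_iff_unique.1 h
  exact ⟨c, hc, fun d hd => congrArg Subtype.val (hu.elim ⟨d, hd⟩ ⟨c, hc⟩)⟩

/-- An involution of a group of even order can be moved to exchange two given points. -/
theorem exists_swap (hP : Pre G Ω) [Finite G] (heven : 2 ∣ Nat.card G) {a b : Ω} (hab : a ≠ b) :
    ∃ v : G, v ≠ 1 ∧ v * v = 1 ∧ v • a = b ∧ v • b = a := by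
  haveI := hP.faithful
  haveI : Fact (Nat.Prime 2) := ⟨Nat.prime_two⟩
  obtain ⟨t, ht⟩ := exists_prime_orderOf_dvd_card' 2 heven
  have tt : t * t = 1 := by rw [← pow_two, ← ht, pow_orderOf_eq_one]
  have t1 : t ≠ 1 := fun h => by rw [h, orderOf_one] at ht; omega
  obtain ⟨c, hc⟩ : ∃ c : Ω, t • c ≠ c := by
    by_contra h
    push Not at h
    exact t1 (eq_of_smul_eq_smul (α := Ω) fun x => by rw [h x, one_smul])
  obtain ⟨g, g1, g2⟩ := hP.two_trans (Ne.symm hc) hab
  refine ⟨g * t * g⁻¹, by simpa [mul_inv_eq_one] using t1, ?_, ?_, ?_⟩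
  · calc g * t * g⁻¹ * (g * t * g⁻¹) = g * (t * t) * g⁻¹ := by group
      _ = 1 := by rw [tt, mul_one, mul_inv_cancel]
  · rw [← g1, mul_smul, mul_smul, inv_smul_smul, g2]
  · rw [← g2, mul_smul, mul_smul, inv_smul_smul, ← mul_smul t, tt, one_smul, g1]

/-- An involution exchanging two points and fixing a further one inverts their common
stabiliser. -/
theorem swap_inverts (hP : Pre G Ω) [Finite G] {a b c : Ω} (hab : a ≠ b) {v : G} (vv : v * v = 1)
    (va : v • a = b) (vb : v • b = a) (hc : v • c = c) (huniq : ∀ d : Ω, v • d = d → d = c)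
    {h : G} (ha : h • a = a) (hb : h • b = b) : v * h * v⁻¹ = h⁻¹ := by
  have hinv : v⁻¹ = v := inv_eq_of_mul_eq_one_right vv
  set H : Subgroup G := stabilizer G a ⊓ stabilizer G b with hH
  have hcab : c ≠ a ∧ c ≠ b := by
    constructor
    · intro e
      rw [e, va] at hc
      exact hab hc.symm
    · intro e
      rw [e, vb] at hc
      exact hab hc
  have hconj : ∀ x ∈ H, v * x * v⁻¹ ∈ H := by
    intro x hx
    simp only [hH, Subgroup.mem_inf, mem_stabilizer_iff] at hx ⊢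
    simp [mul_smul, hinv, va, vb, hx.1, hx.2]
  let φ : H →* H :=
    { toFun := fun x => ⟨v * x * v⁻¹, hconj x x.2⟩
      map_one' := Subtype.ext (by simp)
      map_mul' := fun x y => Subtype.ext (by simp only [Subgroup.coe_mul]; group) }
  have hφ : MonoidHom.FixedPointFree φ := by
    intro x hx
    have e : v * x * v⁻¹ = x := congrArg Subtype.val hx
    by_contra hne
    have h1 : v • ((x : G) • c) = (x : G) • c := by
      rw [← mul_smul, mul_inv_eq_iff_eq_mul.1 e, mul_smul, hc]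
    have h2 : (x : G) • c = c := huniq _ h1
    rcases hP.eq_or_eq (fun h => hne (Subtype.ext h)) hab x.2.1 x.2.2 h2 with h3 | h3
    · exact hcab.1 h3
    · exact hcab.2 h3
  have h2 : Function.Involutive φ := fun x => Subtype.ext (by
    show v * (v * x * v⁻¹) * v⁻¹ = x
    calc v * (v * x * v⁻¹) * v⁻¹ = (v * v) * x * (v * v)⁻¹ := by group
      _ = x := by rw [vv]; simp)
  have := congrFun (hφ.coe_eq_inv_of_involutive h2) ⟨h, ha, hb⟩
  exact congrArg Subtype.val this

end Pre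

end CfsgLib.Zass
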