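import Cfsg.Agent.Lib.Zass.OddStab
import Cfsg.Agent.S0738
import Mathlib.Combinatorics.Enumerative.DoubleCounting

/-!
# Orders in doubly transitive groups fixing at most two points; the extremal case `2d = n - 2`
-/

set_option autoImplicit false
set_option linter.style.haveILetI false
set_option linter.unusedSectionVars false

open MulAction

namespace CfsgLib.Zass.Pre

variable {G Ω : Type*} [Group G] [MulAction G Ω]

theorem isPretransitive (hP : Pre G Ω) : MulAction.IsPretransitive G Ω :=
  ⟨fun a c => hP.transitive a c⟩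

theorem card_stabilizer (hP : Pre G Ω) [Fintype Ω] {a b : Ω} (hab : a ≠ b) :
    Nat.card (stabilizer G a) =
      (Fintype.card Ω - 1) * Nat.card ↥(stabilizer G a ⊓ stabilizer G b) := by
  classical
  haveI := hP.finite_group
  have horb : MulAction.orbit (stabilizer G a) b = {x | x ≠ a} := by
    ext x
    constructor
    · rintro ⟨⟨g, hg⟩, rfl⟩ h
      exact hab (MulAction.injective g (h.trans (mem_stabilizer_iff.1 hg).symm)).symm
    · intro hx
      obtain ⟨g, h1, h2⟩ := hP.two_trans hab (Ne.symm hx)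
      exact ⟨⟨g, h1⟩, h2⟩
  have h1 : (MulAction.stabilizer (stabilizer G a) b).index = Fintype.card Ω - 1 := by
    rw [MulAction.index_stabilizer, horb, Set.ncard_eq_toFinset_card']
    rw [show ({x | x ≠ a} : Set Ω).toFinset = Finset.univ.erase a by ext; simp]
    simp
  have h2 : MulAction.stabilizer (stabilizer G a) b =
      (stabilizer G a ⊓ stabilizer G b).subgroupOf (stabilizer G a) := by
    ext ⟨g, hg⟩
    simp [Subgroup.mem_subgroupOf, mem_stabilizer_iff, mem_stabilizer_iff.1 hg]
  rw [← Subgroup.index_mul_card (MulAction.stabilizer (stabilizer G a) b), h1, h2,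
    Nat.card_congr (Subgroup.subgroupOfEquivOfLe inf_le_left).toEquiv]

theorem card_eq (hP : Pre G Ω) [Fintype Ω] {a b : Ω} (hab : a ≠ b) :
    Nat.card G = Fintype.card Ω * (Fintype.card Ω - 1) *
      Nat.card ↥(stabilizer G a ⊓ stabilizer G b) := by
  haveI := hP.finite_group
  haveI := hP.isPretransitive
  rw [← Subgroup.index_mul_card (stabilizer G a), MulAction.index_stabilizer_of_transitive,
    hP.card_stabilizer hab, Nat.card_eq_fintype_card, mul_assoc]

theorem two_dvd_card (hP : Pre G Ω) [Fintype Ω] {a b : Ω} (hab : a ≠ b) : 2 ∣ Nat.card G := by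
  rw [hP.card_eq hab]
  refine Dvd.dvd.mul_right ?_ _
  obtain ⟨k, hk⟩ := Nat.even_or_odd' (Fintype.card Ω)
  rcases hk with hk | hk <;> rw [hk]
  · exact Dvd.dvd.mul_right (dvd_mul_right 2 k) _
  · exact Dvd.dvd.mul_left (by simp) _

/-- The two-point stabiliser order divides the number of remaining points. -/
theorem card_dvd_sub_two (hP : Pre G Ω) [Fintype Ω] {a b : Ω} (hab : a ≠ b) :
    Nat.card ↥(stabilizer G a ⊓ stabilizer G b) ∣ Fintype.card Ω - 2 := by
  haveI := hP.finite_group
  obtain ⟨K, hK⟩ := hP.exists_kernel a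
  have hc := hK.card hP
  have h := Cfsg.Agent.S0738.card_dvd (stabilizer G a ⊓ stabilizer G b) K
    (fun l hl x hx => hK.conj_mem l hl.1 x hx) (fun l hl x hx hx1 e => by
      by_contra hl1
      exact hx1 (hK.eq_one_of_commute hP hab.symm hl.1 hl.2 hl1 hx (mul_inv_eq_iff_eq_mul.1 e)))
  rwa [show Fintype.card Ω - 2 = Nat.card K - 1 by omega]

/-- If the two-point stabiliser has even order, the degree is even. -/
theorem even_card (hP : Pre G Ω) [Fintype Ω] {a b : Ω} (hab : a ≠ b)
    (heven : Even (Nat.card ↥(stabilizer G a ⊓ stabilizer G b))) : Even (Fintype.card Ω) := by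
  haveI := hP.finite_group
  haveI : Fact (Nat.Prime 2) := ⟨Nat.prime_two⟩
  by_contra h
  obtain ⟨t, ht⟩ := exists_prime_orderOf_dvd_card' 2 heven.two_dvd
  have ht1 : (t : G) ≠ 1 := fun e => by
    rw [← Subgroup.orderOf_coe, e, orderOf_one] at ht
    omega
  have tt : (t : G) * t = 1 := by
    rw [← pow_two, ← ht, ← Subgroup.orderOf_coe, pow_orderOf_eq_one]
  obtain ⟨d, -, hd⟩ := hP.exists_unique_fix (Nat.not_even_iff_odd.1 h) tt ht1
  exact hab ((hd a t.2.1).trans (hd b t.2.2).symm)

/-- If the two-point stabiliser has even order `d` with `2 d = n - 2`, every element exchanging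
the two points is an involution. -/
theorem swap_sq_of_extremal (hP : Pre G Ω) [Fintype Ω] {a b : Ω} (hab : a ≠ b)
    (heven : Even (Nat.card ↥(stabilizer G a ⊓ stabilizer G b)))
    (hd : 2 * Nat.card ↥(stabilizer G a ⊓ stabilizer G b) = Fintype.card Ω - 2)
    {s : G} (sa : s • a = b) (sb : s • b = a) : s * s = 1 := by
  classical
  haveI := hP.finite_group
  haveI : Fact (Nat.Prime 2) := ⟨Nat.prime_two⟩
  haveI := Fintype.ofFinite G
  set M := stabilizer G a ⊓ stabilizer G b with hM
  obtain ⟨t0, ht0⟩ := exists_prime_orderOf_dvd_card' (G := M) 2 heven.two_dvd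
  have h20 : orderOf (t0 : G) = 2 := by rw [Subgroup.orderOf_coe, ht0]
  let E : Finset (Ω × Ω) := Finset.univ.filter (fun e => e.1 ≠ e.2)
  let T : Finset G := Finset.univ.filter
    (fun t => orderOf t = 2 ∧ ∃ c d : Ω, c ≠ d ∧ t • c = c ∧ t • d = d)
  let r : G → Ω × Ω → Prop := fun t e => t • e.1 = e.2 ∧ t • e.2 = e.1
  have hA : ∀ e ∈ E, ((Finset.univ.filter fun t : G => r t e).card ≤ Nat.card M) := by
    intro e he
    simp only [E, Finset.mem_filter, Finset.mem_univ, true_and] at he
    obtain ⟨g, g1, g2⟩ := hP.two_trans hab he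
    obtain ⟨s0, s1, s2⟩ := hP.two_trans he (Ne.symm he)
    refine le_of_le_of_eq (Finset.card_le_card_of_injOn (fun u => g⁻¹ * (s0 * u) * g)
      (t := Finset.univ.filter (fun x => x ∈ M)) ?_ ?_) ?_
    · intro u hu
      simp only [r, Finset.coe_filter, Finset.mem_univ, true_and, Set.mem_setOf_eq,
        hM, Subgroup.mem_inf, mem_stabilizer_iff] at hu ⊢
      refine ⟨?_, ?_⟩ <;> simp [mul_smul, g1, g2, hu.1, hu.2, s1, s2, inv_smul_eq_iff]
    · intro x _ y _ h
      simpa using h
    · rw [Nat.card_eq_fintype_card, Fintype.card_subtype]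
  have hsub : ∀ e, Finset.bipartiteBelow r T e ⊆ Finset.univ.filter fun t : G => r t e := by
    intro e t ht
    simp only [Finset.mem_bipartiteBelow] at ht
    simp [ht.2]
  have hB : ∀ t ∈ T, (Finset.bipartiteAbove r E t).card = Fintype.card Ω - 2 := by
    intro t ht
    simp only [T, Finset.mem_filter, Finset.mem_univ, true_and] at ht
    obtain ⟨hto, c, d, hcd, hc, hd'⟩ := ht
    have tt : t * t = 1 := by rw [← pow_two, ← hto, pow_orderOf_eq_one]
    have ht1 : t ≠ 1 := fun h => by rw [h, orderOf_one] at hto; omega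
    have hm : ∀ x : Ω, t • x ≠ x ↔ x ≠ c ∧ x ≠ d := by
      intro x
      constructor
      · intro h; exact ⟨fun e => h (e ▸ hc), fun e => h (e ▸ hd')⟩
      · intro h e
        rcases hP.eq_or_eq ht1 hcd hc hd' e with h' | h'
        exacts [h.1 h', h.2 h']
    have hset : Finset.bipartiteAbove r E t =
        ((Finset.univ.erase c).erase d).image (fun x => (x, t • x)) := by
      ext ⟨x, y⟩
      simp only [Finset.mem_bipartiteAbove, r, E, Finset.mem_filter, Finset.mem_univ, true_and,
        Finset.mem_image, Finset.mem_erase, and_true, Prod.mk.injEq]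
      constructor
      · rintro ⟨hne, h1, h2⟩
        obtain ⟨q1, q2⟩ := (hm x).1 (fun e => hne (e.symm.trans h1))
        exact ⟨x, ⟨q2, q1⟩, rfl, h1⟩
      · rintro ⟨z, ⟨z1, z2⟩, rfl, rfl⟩
        exact ⟨Ne.symm ((hm z).2 ⟨z2, z1⟩), rfl, by rw [← mul_smul, tt, one_smul]⟩
    rw [hset, Finset.card_image_of_injective _ (fun x y h => congrArg Prod.fst h),
      Finset.card_erase_of_mem (by simp [hcd.symm]), Finset.card_erase_of_mem (Finset.mem_univ c),
      Finset.card_univ]
    rfl
  have hC : E.card ≤ 2 * T.card := by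
    have key := Finset.card_mul_le_card_mul'
      (r := fun (t : G) (e : Ω × Ω) => t • e.1 = e.1 ∧ t • e.2 = e.2)
      (s := T) (t := E) (n := 1) (m := 2) ?_ ?_
    · simpa [mul_comm] using key
    · intro e he
      simp only [E, Finset.mem_filter, Finset.mem_univ, true_and] at he
      obtain ⟨g, g1, g2⟩ := hP.two_trans hab he
      refine Finset.card_pos.2 ⟨g * t0 * g⁻¹, ?_⟩
      have f1 : (g * t0 * g⁻¹) • e.1 = e.1 := by
        rw [← g1, mul_smul, mul_smul, inv_smul_smul]; exact congrArg (g • ·) t0.2.1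
      have f2 : (g * t0 * g⁻¹) • e.2 = e.2 := by
        rw [← g2, mul_smul, mul_smul, inv_smul_smul]; exact congrArg (g • ·) t0.2.2
      simp only [Finset.mem_bipartiteBelow, T, Finset.mem_filter, Finset.mem_univ, true_and]
      refine ⟨⟨?_, e.1, e.2, he, f1, f2⟩, f1, f2⟩
      rw [← h20]
      exact orderOf_injective (MulAut.conj g).toMonoidHom (MulAut.conj g).injective _
    · intro t ht
      simp only [T, Finset.mem_filter, Finset.mem_univ, true_and] at ht
      obtain ⟨hto, c, d, hcd, hc, hd'⟩ := ht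
      have ht1 : t ≠ 1 := fun h => by rw [h, orderOf_one] at hto; omega
      refine le_trans (Finset.card_le_card (t := {(c, d), (d, c)}) ?_) Finset.card_le_two
      rintro ⟨x, y⟩ he
      simp only [Finset.mem_bipartiteAbove, E, Finset.mem_filter, Finset.mem_univ, true_and] at he
      simp only [Finset.mem_insert, Finset.mem_singleton, Prod.mk.injEq]
      rcases hP.eq_or_eq ht1 hcd hc hd' he.2.1 with h | h <;>
        rcases hP.eq_or_eq ht1 hcd hc hd' he.2.2 with h' | h'
      · exact absurd (h.trans h'.symm) he.1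
      · exact Or.inl ⟨h, h'⟩
      · exact Or.inr ⟨h, h'⟩
      · exact absurd (h.trans h'.symm) he.1
  have hsum := Finset.sum_card_bipartiteAbove_eq_sum_card_bipartiteBelow (r := r) (s := T) (t := E)
  rw [Finset.sum_const_nat hB] at hsum
  have hle : ∀ e ∈ E, (Finset.bipartiteBelow r T e).card ≤ Nat.card M := fun e he =>
    (Finset.card_le_card (hsub e)).trans (hA e he)
  have hge : ∑ _e ∈ E, Nat.card M ≤ ∑ e ∈ E, (Finset.bipartiteBelow r T e).card := by
    rw [← hsum, Finset.sum_const, smul_eq_mul, ← hd]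
    calc E.card * Nat.card M ≤ 2 * T.card * Nat.card M := Nat.mul_le_mul_right _ hC
      _ = T.card * (2 * Nat.card M) := by ring
  have heq := (Finset.sum_eq_sum_iff_of_le hle).1 (le_antisymm (Finset.sum_le_sum hle) hge) (a, b)
    (by simp [E, hab])
  have hall : Finset.bipartiteBelow r T (a, b) = Finset.univ.filter fun t : G => r t (a, b) :=
    Finset.eq_of_subset_of_card_le (hsub _) (by rw [heq]; exact hA (a, b) (by simp [E, hab]))
  have hs : s ∈ Finset.bipartiteBelow r T (a, b) := by
    rw [hall]; simp [r, sa, sb]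
  simp only [Finset.mem_bipartiteBelow, T, Finset.mem_filter] at hs
  rw [← pow_two, ← hs.1.2.1, pow_orderOf_eq_one]

/-- In the extremal case the two-point stabiliser is cyclic and inverted. -/
theorem cyclic_of_extremal (hP : Pre G Ω) [Fintype Ω] {a b : Ω} (hab : a ≠ b)
    (heven : Even (Nat.card ↥(stabilizer G a ⊓ stabilizer G b)))
    (hd : 2 * Nat.card ↥(stabilizer G a ⊓ stabilizer G b) = Fintype.card Ω - 2) :
    IsCyclic ↥(stabilizer G a ⊓ stabilizer G b) ∧
      ∀ s : G, s • a = b → s • b = a → orderOf s = 2 ∧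
        ∀ h ∈ stabilizer G a ⊓ stabilizer G b, s * h * s⁻¹ = h⁻¹ := by
  haveI := hP.finite_group
  have hinv : ∀ s : G, s • a = b → s • b = a →
      ∀ h ∈ stabilizer G a ⊓ stabilizer G b, s * h * s⁻¹ = h⁻¹ := by
    intro s sa sb h hh
    simp only [Subgroup.mem_inf, mem_stabilizer_iff] at hh
    have e1 := hP.swap_sq_of_extremal hab heven hd sa sb
    have e2 := hP.swap_sq_of_extremal hab heven hd (s := s * h)
      (by rw [mul_smul, hh.1, sa]) (by rw [mul_smul, hh.2, sb])
    rw [show s⁻¹ = s from inv_eq_of_mul_eq_one_right e1]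
    exact eq_inv_of_mul_eq_one_left (by rw [← e2]; group)
  obtain ⟨V, hV, hVc, hHV, hfpf⟩ := hP.exists_abelian_fpf hab
  haveI := hVc
  obtain ⟨s, sa, sb⟩ := hP.two_trans hab hab.symm
  haveI : IsMulCommutative ↥(stabilizer G a ⊓ stabilizer G b) := ⟨⟨fun x y => by
    have e := hinv s sa sb _ ((x * y)⁻¹).2
    have ex := hinv s sa sb _ x.2
    have ey := hinv s sa sb _ y.2
    refine Subtype.ext ?_
    have e3 : s * ((x : G) * y)⁻¹ * s⁻¹ = (x : G) * y := by
      simpa using e
    have e4 : s * ((x : G) * y)⁻¹ * s⁻¹ = (s * y * s⁻¹)⁻¹ * (s * x * s⁻¹)⁻¹ := by group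
    rw [ex, ey, inv_inv, inv_inv, e3] at e4
    exact e4⟩⟩
  refine ⟨CfsgLib.Frobenius.isCyclic_of_commutative_fpf hV hHV hfpf, fun s' sa' sb' =>
    ⟨orderOf_eq_prime (by rw [pow_two]; exact hP.swap_sq_of_extremal hab heven hd sa' sb') ?_,
      hinv s' sa' sb'⟩⟩
  intro h
  rw [h, one_smul] at sa'
  exact hab sa'

end CfsgLib.Zass.Pre
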