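import Cfsg.Agent.Lib.Zass.Basic
import Mathlib.GroupTheory.PGroup
import Mathlib.GroupTheory.Perm.Cycle.Type

/-!
# Normal subgroups of Zassenhaus groups
-/

set_option autoImplicit false
set_option linter.style.haveILetI false
set_option linter.unusedSectionVars false

open scoped Pointwise
open MulAction

namespace CfsgLib.Zass

variable {G Ω : Type*} [Group G] [MulAction G Ω]

/-- A normal subgroup acting regularly. -/
structure IsRegularNormal (R : Subgroup G) (Ω : Type*) [MulAction G Ω] : Prop where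
  normal : R.Normal
  trans : ∀ x y : Ω, ∃ r ∈ R, r • x = y
  free : ∀ r ∈ R, ∀ x : Ω, r • x = x → r = 1

theorem IsRegularNormal.of_pretransitive (R : Subgroup G) [hn : R.Normal]
    (ht : MulAction.IsPretransitive R Ω) (hr : ∀ a : Ω, MulAction.stabilizer R a = ⊥) :
    IsRegularNormal R Ω := by
  refine ⟨hn, fun x y => ?_, fun r hr' x hx => ?_⟩
  · obtain ⟨r, hr'⟩ := MulAction.exists_smul_eq R x y
    exact ⟨r, r.2, hr'⟩
  · have : (⟨r, hr'⟩ : R) ∈ MulAction.stabilizer R x := hx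
    rw [hr x, Subgroup.mem_bot] at this
    exact congrArg Subtype.val this

namespace IsRegularNormal

variable {R : Subgroup G}

theorem eq_of_smul (hR : IsRegularNormal R Ω) {r s : G} (hr : r ∈ R) (hs : s ∈ R) {x : Ω}
    (h : r • x = s • x) : r = s := by
  refine (inv_mul_eq_one.1 (hR.free (s⁻¹ * r) (R.mul_mem (R.inv_mem hs) hr) x ?_)).symm
  rw [mul_smul, h, inv_smul_smul]

theorem conj_smul {g : G} {a : Ω} (hg : g • a = a) (r : G) :
    (g * r * g⁻¹) • a = g • r • a := by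
  rw [mul_smul, mul_smul, show g⁻¹ • a = a by rw [inv_smul_eq_iff, hg]]

/-- In a doubly transitive group the nontrivial elements of a regular normal subgroup are
conjugate under a point stabiliser. -/
theorem exists_conj (hR : IsRegularNormal R Ω) (h2 : MulAction.IsMultiplyPretransitive G Ω 2)
    (a : Ω) {r s : G} (hr : r ∈ R) (hr1 : r ≠ 1) (hs : s ∈ R) (hs1 : s ≠ 1) :
    ∃ g : G, g • a = a ∧ g * r * g⁻¹ = s := by
  obtain ⟨g, g1, g2⟩ := (MulAction.is_two_pretransitive_iff.1 h2)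
    (fun e => hr1 (hR.free r hr a e.symm) : a ≠ r • a)
    (fun e => hs1 (hR.free s hs a e.symm) : a ≠ s • a)
  refine ⟨g, g1, hR.eq_of_smul (hR.normal.conj_mem r hr g) hs (x := a) ?_⟩
  rw [conj_smul g1, g2]

/-- A regular normal subgroup of a doubly transitive group is abelian of prime exponent. -/
theorem elementary [Finite G] [Nonempty Ω] (hR : IsRegularNormal R Ω)
    (h2 : MulAction.IsMultiplyPretransitive G Ω 2) (hne : R ≠ ⊥) :
    (∀ x ∈ R, ∀ y ∈ R, x * y = y * x) ∧
      ∃ p : ℕ, p.Prime ∧ IsPGroup p R ∧ ∀ x ∈ R, x ≠ 1 → orderOf x = p := by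
  obtain ⟨a⟩ := ‹Nonempty Ω›
  obtain ⟨p, hp, hpd⟩ := Nat.exists_prime_and_dvd (n := Nat.card R)
    (fun h => hne (Subgroup.card_eq_one.1 h))
  haveI := Fact.mk hp
  obtain ⟨z, hz⟩ := exists_prime_orderOf_dvd_card' (G := R) p hpd
  rw [← Subgroup.orderOf_coe] at hz
  have hz1 : (z : G) ≠ 1 := fun h => by
    rw [h, orderOf_one] at hz; exact hp.one_lt.ne hz
  have hord : ∀ x ∈ R, x ≠ 1 → orderOf x = p := by
    intro x hx hx1
    obtain ⟨g, -, hg⟩ := hR.exists_conj h2 a z.2 hz1 hx hx1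
    rw [← hg, ← hz]
    exact orderOf_injective (MulAut.conj g).toMonoidHom (MulAut.conj g).injective _
  have hpg : IsPGroup p R := by
    intro x
    refine ⟨1, ?_⟩
    by_cases hx : (x : G) = 1
    · exact Subtype.ext (by simp [hx])
    · refine Subtype.ext ?_
      rw [Subgroup.coe_pow, pow_one, ← hord x x.2 hx, pow_orderOf_eq_one, Subgroup.coe_one]
  haveI : Nontrivial R := (Subgroup.nontrivial_iff_ne_bot R).2 hne
  haveI := hpg.center_nontrivial
  obtain ⟨c, hc⟩ := exists_ne (1 : Subgroup.center R)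
  refine ⟨fun x hx y hy => ?_, p, hp, hpg, hord⟩
  by_cases hx1 : x = 1
  · simp [hx1]
  have hc1 : ((c : R) : G) ≠ 1 := fun h => hc (Subtype.ext (Subtype.ext h))
  obtain ⟨g, -, hg⟩ := hR.exists_conj h2 a (c : R).2 hc1 hx hx1
  have hy' : g⁻¹ * y * g ∈ R := by
    simpa using hR.normal.conj_mem y hy g⁻¹
  have hcy : ((c : R) : G) * (g⁻¹ * y * g) = (g⁻¹ * y * g) * ((c : R) : G) :=
    (congrArg Subtype.val (Subgroup.mem_center_iff.1 c.2 ⟨_, hy'⟩)).symm
  rw [← hg]
  calc g * ((c : R) : G) * g⁻¹ * y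
      = g * (((c : R) : G) * (g⁻¹ * y * g)) * g⁻¹ := by group
    _ = g * ((g⁻¹ * y * g) * ((c : R) : G)) * g⁻¹ := by rw [hcy]
    _ = y * (g * ((c : R) : G) * g⁻¹) := by group

/-- A doubly transitive group has at most one regular normal subgroup. -/
theorem unique [Finite G] [Nonempty Ω] [FaithfulSMul G Ω] (hR : IsRegularNormal R Ω)
    {R' : Subgroup G} (hR' : IsRegularNormal R' Ω)
    (h2 : MulAction.IsMultiplyPretransitive G Ω 2) (hne : R ≠ ⊥) : R ≤ R' := by
  obtain ⟨a⟩ := ‹Nonempty Ω›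
  obtain ⟨hcomm, -⟩ := hR.elementary h2 hne
  intro r hr
  obtain ⟨r', hr', e⟩ := hR'.trans a (r • a)
  by_cases hr1 : r = 1
  · rw [hr1]; exact R'.one_mem
  by_cases hmeet : ∃ x ∈ R, x ∈ R' ∧ x ≠ 1
  · obtain ⟨x, hx, hx', hx1⟩ := hmeet
    obtain ⟨g, -, hg⟩ := hR.exists_conj h2 a hx hx1 hr hr1
    rw [← hg]
    exact hR'.normal.conj_mem x hx' g
  push Not at hmeet
  have hc : ∀ x ∈ R, r' * x = x * r' := by
    intro x hx
    have h1 : r' * x * r'⁻¹ * x⁻¹ ∈ R :=
      R.mul_mem (hR.normal.conj_mem x hx r') (R.inv_mem hx)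
    have h2' : r' * x * r'⁻¹ * x⁻¹ ∈ R' := by
      have := R'.mul_mem hr' (hR'.normal.conj_mem _ (R'.inv_mem hr') x)
      simpa [mul_assoc] using this
    have := hmeet _ h1 h2'
    rwa [mul_inv_eq_one, mul_inv_eq_iff_eq_mul] at this
  have hfix : r⁻¹ * r' = 1 := by
    refine eq_of_smul_eq_smul (α := Ω) fun y => ?_
    obtain ⟨x, hx, rfl⟩ := hR.trans a y
    have e2 : r⁻¹ * r' * x = x * (r⁻¹ * r') := by
      rw [mul_assoc, hc x hx, ← mul_assoc, hcomm _ (R.inv_mem hr) x hx, mul_assoc]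
    rw [one_smul, ← mul_smul, e2, mul_smul, mul_smul, e, inv_smul_smul]
  rw [inv_mul_eq_one.1 hfix]
  exact hr'

end IsRegularNormal

namespace Pre

variable [Finite Ω]

/-- In a Zassenhaus group a nontrivial normal subgroup is transitive, contains a nontrivial
element fixing two given points, and every kernel of a point stabiliser. -/
theorem normal_structure (hZ : Cfsg.IsZassenhausGroup G Ω) (N : Subgroup G) [hn : N.Normal]
    (hN : N ≠ ⊥) :
    (∀ x y : Ω, ∃ g ∈ N, g • x = y) ∧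
      (∀ a b : Ω, a ≠ b → ∃ g ∈ N, g ≠ 1 ∧ g • a = a ∧ g • b = b) ∧
      ∀ (a : Ω) (K : Subgroup G), IsKernel a K → K ≤ N := by
  have hP := Pre.of hZ
  haveI := hP.finite_group
  haveI := hP.faithful
  haveI := Fintype.ofFinite Ω
  obtain ⟨x, hx, hx1⟩ := (N.bot_or_exists_ne_one).resolve_left hN
  obtain ⟨c, hc⟩ : ∃ c : Ω, x • c ≠ c := by
    by_contra h
    push Not at h
    exact hx1 (eq_of_smul_eq_smul (α := Ω) fun y => by rw [h y, one_smul])
  have htr : ∀ y z : Ω, ∃ g ∈ N, g • y = z := by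
    intro y z
    by_cases hyz : y = z
    · exact ⟨1, N.one_mem, by rw [one_smul, hyz]⟩
    obtain ⟨g, g1, g2⟩ := hP.two_trans (Ne.symm hc) hyz
    exact ⟨g * x * g⁻¹, hn.conj_mem x hx g, by rw [← g1, mul_smul, mul_smul, inv_smul_smul, g2]⟩
  haveI hNt : MulAction.IsPretransitive N Ω := ⟨fun y z => by
    obtain ⟨g, hg, e⟩ := htr y z
    exact ⟨⟨g, hg⟩, e⟩⟩
  have htwo : ∀ a b : Ω, a ≠ b → ∃ g ∈ N, g ≠ 1 ∧ g • a = a ∧ g • b = b := by
    suffices h : ∃ g ∈ N, g ≠ 1 ∧ ∃ a b : Ω, a ≠ b ∧ g • a = a ∧ g • b = b by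
      obtain ⟨g, hg, hg1, c, d, hcd, hcg, hdg⟩ := h
      intro a b hab
      obtain ⟨y, yc, yd⟩ := hP.two_trans hcd hab
      refine ⟨y * g * y⁻¹, hn.conj_mem g hg y, by simpa [mul_inv_eq_one] using hg1, ?_, ?_⟩
      · rw [← yc, mul_smul, mul_smul, inv_smul_smul, hcg]
      · rw [← yd, mul_smul, mul_smul, inv_smul_smul, hdg]
    by_contra hno
    push Not at hno
    -- otherwise `N` is a Frobenius group, whose kernel is a regular normal subgroup of `G`
    obtain ⟨a, ha⟩ := hZ.2.2.2.2 N hn hNt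
    obtain ⟨b, hb⟩ := hP.exists_ne a
    haveI : Fintype N := Fintype.ofFinite _
    have hfr : Cfsg.IsFrobeniusComplement (MulAction.stabilizer N a) := by
      refine ⟨ha, ?_, ?_⟩
      · intro h
        obtain ⟨g, hg, e⟩ := htr a b
        have : (⟨g, hg⟩ : N) ∈ MulAction.stabilizer N a := by rw [h]; exact Subgroup.mem_top _
        exact hb (e.symm.trans this)
      · rintro ⟨g, hg⟩ hga
        rw [Subgroup.eq_bot_iff_forall]
        rintro ⟨y, hy⟩ hy'
        obtain ⟨h1, h2⟩ := Subgroup.mem_inf.1 hy'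
        have h1' : y • a = a := h1
        have h2' : y • g • a = g • a := by
          have h3 : (g⁻¹ * y * g) • a = a := CfsgLib.Frobenius.mem_conjSMul_iff.1 h2
          simpa [mul_smul, inv_smul_eq_iff] using h3
        by_contra hne
        exact hno y hy (fun h => hne (Subtype.ext h)) a (g • a) (fun h => hga h.symm) h1' h2'
    obtain ⟨R, hR, -, hRc⟩ := CfsgLib.Frobenius.exists_kernel_subgroup hfr
    have hmem : ∀ y : N, y ∈ R ↔ ((y : G) = 1 ∨ ∀ d : Ω, (y : G) • d ≠ d) := by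
      intro y
      rw [← SetLike.mem_coe, hR]
      constructor
      · rintro (rfl | h)
        · exact Or.inl rfl
        · refine Or.inr fun d hd => ?_
          obtain ⟨g, hg⟩ := MulAction.exists_smul_eq N a d
          refine h g (CfsgLib.Frobenius.mem_conjSMul_iff.2 ?_)
          show (((g⁻¹ * y * g : N)) : G) • a = a
          have hg' : (g : G) • a = d := hg
          simp [mul_smul, hg', hd, inv_smul_eq_iff]
      · rintro (h | h)
        · exact Or.inl (Subtype.ext h)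
        · refine Or.inr fun g hg => ?_
          have h3 : (((g⁻¹ * y * g : N)) : G) • a = a := CfsgLib.Frobenius.mem_conjSMul_iff.1 hg
          exact h ((g : G) • a) (by simpa [mul_smul, inv_smul_eq_iff] using h3)
    set R' := R.map N.subtype with hR'
    have hR'n : R'.Normal := by
      refine ⟨?_⟩
      rintro _ ⟨y, hy, rfl⟩ g
      refine ⟨⟨g * y * g⁻¹, hn.conj_mem y y.2 g⟩, ?_, rfl⟩
      rw [SetLike.mem_coe, hmem]
      rcases (hmem y).1 hy with h | h
      · left; simp [h]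
      · right
        intro d hd
        refine h (g⁻¹ • d) ?_
        have hd' : (g * y * g⁻¹) • d = d := hd
        rw [eq_inv_smul_iff]
        simpa [mul_smul] using hd'
    have hR't : MulAction.IsPretransitive R' Ω := by
      refine ⟨fun y z => ?_⟩
      have key : ∀ d : Ω, ∃ r : R', (r : G) • a = d := by
        intro d
        obtain ⟨g, hg⟩ := MulAction.exists_smul_eq N a d
        obtain ⟨⟨⟨r, hr⟩, ⟨e, he⟩⟩, hre⟩ := hRc.2 g
        refine ⟨⟨r, ⟨r, hr, rfl⟩⟩, ?_⟩
        have he' : (e : G) • a = a := he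
        have hre' : (r : G) * e = g := congrArg Subtype.val hre
        rw [← hg]
        show (r : G) • a = (g : G) • a
        rw [← hre', mul_smul, he']
      obtain ⟨r, hr⟩ := key y
      obtain ⟨s, hs⟩ := key z
      refine ⟨s * r⁻¹, ?_⟩
      show ((s * r⁻¹ : R') : G) • y = z
      rw [← hr, Subgroup.coe_mul, Subgroup.coe_inv, mul_smul, inv_smul_smul, hs]
    obtain ⟨d, hd⟩ := hZ.2.2.2.2 R' hR'n hR't
    refine hd ((Subgroup.eq_bot_iff_forall _).2 ?_)
    rintro ⟨_, y, hy, rfl⟩ hyd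
    rcases (hmem y).1 hy with h | h
    · exact Subtype.ext h
    · exact absurd hyd (h d)
  refine ⟨htr, htwo, fun a K hK k hk => ?_⟩
  obtain ⟨b, hb⟩ := hP.exists_ne a
  obtain ⟨h, hh, hh1, ha, hb'⟩ := htwo a b hb.symm
  obtain ⟨y, -, rfl⟩ := hK.exists_commutator hP hb ha hb' hh1 hk
  have := N.mul_mem hh (hn.conj_mem _ (N.inv_mem hh) y)
  simpa [mul_assoc] using this

/-- A nontrivial normal subgroup of a Zassenhaus group is a Zassenhaus group. -/
theorem isZassenhausGroup_normal (hZ : Cfsg.IsZassenhausGroup G Ω) (N : Subgroup G) [hn : N.Normal]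
    (hN : N ≠ ⊥) : Cfsg.IsZassenhausGroup N Ω := by
  have hP := Pre.of hZ
  haveI := hP.finite_group
  haveI := hP.faithful
  obtain ⟨htr, htwo, hker⟩ := normal_structure hZ N hN
  have hN2 : MulAction.IsMultiplyPretransitive N Ω 2 := by
    rw [MulAction.is_two_pretransitive_iff]
    intro a b c d hab hcd
    obtain ⟨g, hg, e⟩ := htr a c
    obtain ⟨K, hK⟩ := hP.exists_kernel c
    have hne : g • b ≠ c := fun h => hab (MulAction.injective g (e.trans h.symm))
    obtain ⟨k, hk, ek⟩ := hK.regular (g • b) d hne hcd.symm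
    refine ⟨⟨k * g, N.mul_mem (hker c K hK hk) hg⟩, ?_, ?_⟩
    · show (k * g) • a = c
      rw [mul_smul, e, hK.le k hk]
    · show (k * g) • b = d
      rw [mul_smul, ek]
  refine ⟨inferInstance, hN2, fun g a b c hab hbc hac ga gb gc => Subtype.ext
    (hP.three g a b c hab hbc hac ga gb gc), ?_, fun R hR hRt => ?_⟩
  · obtain ⟨g, -, a, b, hab, -, -⟩ := hP.exTwo
    obtain ⟨y, hy, hy1, ya, yb⟩ := htwo a b hab
    exact ⟨⟨y, hy⟩, fun h => hy1 (congrArg Subtype.val h), a, b, hab, ya, yb⟩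
  by_contra hno
  push Not at hno
  have hreg : IsRegularNormal R Ω := @IsRegularNormal.of_pretransitive _ _ _ _ R hR hRt hno
  obtain ⟨a0, b0, hab0⟩ : ∃ a b : Ω, a ≠ b := by
    obtain ⟨-, -, a, b, hab, -, -⟩ := hP.exTwo
    exact ⟨a, b, hab⟩
  haveI : Nonempty Ω := ⟨a0⟩
  have hRne : R ≠ ⊥ := by
    intro h
    obtain ⟨r, hr, e⟩ := hreg.trans a0 b0
    rw [h, Subgroup.mem_bot] at hr
    rw [hr, one_smul] at e
    exact hab0 e
  set R' := R.map N.subtype with hR'
  have hR'n : R'.Normal := by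
    refine ⟨?_⟩
    rintro _ ⟨y, hy, rfl⟩ g
    let φ : N ≃* N := MulAut.conjNormal g
    have hφ : IsRegularNormal (R.map φ.toMonoidHom) Ω := by
      refine ⟨Subgroup.Normal.map hR _ φ.surjective, fun x z => ?_, ?_⟩
      · obtain ⟨r, hr, e⟩ := hreg.trans (g⁻¹ • x) (g⁻¹ • z)
        refine ⟨φ r, ⟨r, hr, rfl⟩, ?_⟩
        have e' : (r : G) • g⁻¹ • x = g⁻¹ • z := e
        show ((φ r : N) : G) • x = z
        rw [MulAut.conjNormal_apply, mul_smul, mul_smul, e', smul_inv_smul]
      · rintro _ ⟨r, hr, rfl⟩ x hx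
        have hx' : (g * r * g⁻¹) • x = x := by
          rw [← MulAut.conjNormal_apply (H := N)]; exact hx
        have := hreg.free r hr (g⁻¹ • x) (by
          show (r : G) • g⁻¹ • x = g⁻¹ • x
          rw [eq_inv_smul_iff]
          simpa [mul_smul] using hx')
        rw [this, map_one]
    have hφne : R.map φ.toMonoidHom ≠ ⊥ := fun h =>
      hRne ((Subgroup.map_eq_bot_iff_of_injective _ φ.injective).1 h)
    exact ⟨φ y, hφ.unique hreg hN2 hφne ⟨y, hy, rfl⟩, MulAut.conjNormal_apply (H := N) g y⟩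
  have hR't : MulAction.IsPretransitive R' Ω := ⟨fun x y => by
    obtain ⟨r, hr, e⟩ := hreg.trans x y
    exact ⟨⟨r, r, hr, rfl⟩, e⟩⟩
  obtain ⟨d, hd⟩ := hZ.2.2.2.2 R' hR'n hR't
  refine hd ((Subgroup.eq_bot_iff_forall _).2 ?_)
  rintro ⟨_, y, hy, rfl⟩ hyd
  exact Subtype.ext (by simp [hreg.free y hy d hyd])

/-- In odd degree every involution lies in each nontrivial normal subgroup and inverts the
stabiliser of a pair which it exchanges; hence the group is simple. -/
theorem isSimpleGroup_of_odd [Fintype Ω] (hZ : Cfsg.IsZassenhausGroup G Ω)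
    (hodd : Odd (Fintype.card Ω)) : IsSimpleGroup G := by
  have hP := Pre.of hZ
  haveI := hP.finite_group
  obtain ⟨g0, hg0, a, b, hab, -, -⟩ := hP.exTwo
  haveI : Nontrivial G := ⟨⟨g0, 1, hg0⟩⟩
  refine { eq_bot_or_eq_top_of_normal := fun N hn => (em (N = ⊥)).imp_right fun hN => ?_ }
  obtain ⟨htr, -, hker⟩ := normal_structure hZ N hN
  obtain ⟨Ka, hKa⟩ := hP.exists_kernel a
  have h2G : 2 ∣ Nat.card G := by
    refine dvd_trans ?_ (Subgroup.card_subgroup_dvd_card Ka)
    obtain ⟨k, hk⟩ := hodd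
    have := hKa.card hP
    exact ⟨k, by omega⟩
  obtain ⟨v, v1, vv, va, vb⟩ := hP.exists_swap h2G hab
  obtain ⟨c, hc, huniq⟩ := hP.exists_unique_fix hodd vv v1
  obtain ⟨Kc, hKc⟩ := hP.exists_kernel c
  have hvN : v ∈ N := hker c Kc hKc (hKc.mem v hc huniq)
  haveI : Fact (Nat.Prime 2) := ⟨Nat.prime_two⟩
  set H : Subgroup G := stabilizer G a ⊓ stabilizer G b with hH
  have hHodd : ¬ 2 ∣ Nat.card H := by
    intro h
    obtain ⟨t, ht⟩ := exists_prime_orderOf_dvd_card' (G := H) 2 h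
    have ht1 : (t : G) ≠ 1 := fun e => by
      have : t = 1 := Subtype.ext e
      rw [this, orderOf_one] at ht
      omega
    have tt : (t : G) * t = 1 := by
      have := congrArg Subtype.val (pow_orderOf_eq_one t)
      rwa [ht, Subgroup.coe_pow, pow_two, Subgroup.coe_one] at this
    obtain ⟨d, -, hd⟩ := hP.exists_unique_fix hodd tt ht1
    exact hab ((hd a t.2.1).trans (hd b t.2.2).symm)
  have hHN : ∀ h : G, h • a = a → h • b = b → h ∈ N := by
    intro h ha hb
    have e := hP.swap_inverts hab vv va vb hc huniq ha hb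
    have h1 : h ^ 2 ∈ N := by
      have := N.mul_mem (hn.conj_mem v hvN h) (N.inv_mem hvN)
      have e2 : h * v * h⁻¹ * v⁻¹ = h ^ 2 := by
        calc h * v * h⁻¹ * v⁻¹ = h * (v * h * v⁻¹)⁻¹ := by group
          _ = h ^ 2 := by rw [e, inv_inv, pow_two]
      rwa [e2] at this
    have hord : orderOf h ∣ Nat.card H := H.orderOf_dvd_natCard ⟨ha, hb⟩
    have hodd' : Odd (orderOf h) := by
      rw [Nat.odd_iff]
      rcases Nat.mod_two_eq_zero_or_one (orderOf h) with h0 | h0
      · exact absurd ((Nat.dvd_of_mod_eq_zero h0).trans hord) hHodd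
      · exact h0
    obtain ⟨k, hk⟩ := hodd'
    have e3 : h = (h ^ 2) ^ (k + 1) := by
      rw [← pow_mul, show 2 * (k + 1) = orderOf h + 1 by omega, pow_succ, pow_orderOf_eq_one,
        one_mul]
    rw [e3]
    exact N.pow_mem h1 _
  rw [Subgroup.eq_top_iff']
  intro g
  obtain ⟨r, hr, hra⟩ := htr a (g • a)
  have hfix : (r⁻¹ * g) • a = a := by rw [mul_smul, inv_smul_eq_iff, hra]
  obtain ⟨k, hk, k1, k2⟩ := hKa.exists_factor hab.symm hfix
  have := N.mul_mem hr (N.mul_mem (hker a Ka hKa hk) (hHN _ k1 k2))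
  simpa [mul_assoc] using this

end Pre

end CfsgLib.Zass
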