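import Cfsg.Agent.Lib.Zass.Sharp
import Cfsg.Agent.Lib.Zass.Normal
import Cfsg.Agent.S0741

/-!
# Simple Zassenhaus groups: the two-point stabiliser is cyclic and inverted
-/

set_option autoImplicit false
set_option linter.style.haveILetI false
set_option linter.unusedSectionVars false

open MulAction

namespace CfsgLib.Zass.Pre

variable {G Ω : Type*} [Group G] [MulAction G Ω]

/-- The two-point stabilisers all have the same order. -/
theorem card_pair_eq (hP : Pre G Ω) [Fintype Ω] {a b c d : Ω} (hab : a ≠ b) (hcd : c ≠ d) :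
    Nat.card ↥(stabilizer G a ⊓ stabilizer G b) = Nat.card ↥(stabilizer G c ⊓ stabilizer G d) := by
  have h1 := hP.card_eq hab
  rw [hP.card_eq hcd] at h1
  have h3 := hP.three_le_card
  exact (Nat.eq_of_mul_eq_mul_left (Nat.mul_pos (by omega) (by omega)) h1).symm

/-- In a simple Zassenhaus group with two-point stabilisers of even order `d` one has
`2 d = n - 2`. -/
theorem extremal_of_even (hZ : Cfsg.IsZassenhausGroup G Ω) [Fintype Ω] [IsSimpleGroup G] {a b : Ω}
    (hab : a ≠ b) (heven : Even (Nat.card ↥(stabilizer G a ⊓ stabilizer G b))) :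
    2 * Nat.card ↥(stabilizer G a ⊓ stabilizer G b) = Fintype.card Ω - 2 := by
  have hP := Pre.of hZ
  haveI := hP.finite_group
  have h741 := Cfsg.Agent.S0741.result hZ hab heven
  obtain ⟨q, hq⟩ := hP.card_dvd_sub_two hab
  have hev := hP.even_card hab heven
  have h3 := hP.three_le_card
  have hd : 0 < Nat.card ↥(stabilizer G a ⊓ stabilizer G b) := Nat.card_pos
  have hq2 : q ≤ 2 := by
    refine Nat.le_of_mul_le_mul_left ?_ hd
    rw [← hq, mul_comm]; exact h741
  interval_cases q
  · omega
  · exact (hP.not_sharp hev fun c d hcd => by rw [hP.card_pair_eq hcd hab, hq, mul_one]).elim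
  · rw [hq, mul_comm]

/-- A simple Zassenhaus group has no normal `q`-complement for a prime dividing the order of a
two-point stabiliser. -/
theorem no_complement (hP : Pre G Ω) [Fintype Ω] [IsSimpleGroup G] {a b : Ω} (hab : a ≠ b)
    (q : ℕ) (hq : q.Prime) (hqd : q ∣ Nat.card ↥(stabilizer G a ⊓ stabilizer G b)) :
    ¬ ∃ N : Subgroup G, N.Normal ∧ N.index = q ^ (Nat.card G).factorization q := by
  haveI := hP.finite_group
  haveI := Fact.mk hq
  rintro ⟨N, hN, hi⟩
  rcases hN.eq_bot_or_eq_top with h | h
  · rw [h, Subgroup.index_bot] at hi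
    have hp : IsPGroup q G := IsPGroup.of_card hi
    haveI := hp.isNilpotent
    haveI : Group.IsSolvable G := inferInstance
    -- a simple `q`-group is commutative, whereas point stabilisers are proper and self-normalising
    have hcomm : ∀ x y : G, x * y = y * x := fun x y =>
      (IsSimpleGroup.comm_iff_isSolvable.2 inferInstance : ∀ a b : G, a * b = b * a) x y
    obtain ⟨g, hg1, ga, gb⟩ := hP.exists_two_fix hab
    obtain ⟨c, hca, hcb⟩ := hP.exists_third hab
    obtain ⟨x, hx⟩ := hP.transitive a c
    have gc : g • c = c := by rw [← hx, ← mul_smul, hcomm, mul_smul, ga]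
    exact hg1 (hP.three g a b c hab hcb.symm hca.symm ga gb gc)
  · rw [h, Subgroup.index_top] at hi
    have := hq.factorization_pos_of_dvd Nat.card_pos.ne'
      (hqd.trans (Subgroup.card_subgroup_dvd_card _))
    exact absurd hi.symm (Nat.one_lt_pow (by omega) hq.one_lt).ne'

/-- The two-point stabiliser of a simple Zassenhaus group is cyclic and inverted by an involution
exchanging the two points. -/
theorem two_point_cyclic (hZ : Cfsg.IsZassenhausGroup G Ω) [Fintype Ω] [IsSimpleGroup G] {a b : Ω}
    (hab : a ≠ b) :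
    IsCyclic ↥(stabilizer G a ⊓ stabilizer G b) ∧
      ∃ v : G, orderOf v = 2 ∧ v • a = b ∧ v • b = a ∧
        ∀ h ∈ stabilizer G a ⊓ stabilizer G b, v * h * v⁻¹ = h⁻¹ := by
  have hP := Pre.of hZ
  haveI := hP.finite_group
  rcases Nat.even_or_odd (Nat.card ↥(stabilizer G a ⊓ stabilizer G b)) with heven | hodd
  · obtain ⟨hc, hs⟩ := hP.cyclic_of_extremal hab heven (extremal_of_even hZ hab heven)
    obtain ⟨v, va, vb⟩ := hP.two_trans hab hab.symm
    exact ⟨hc, v, (hs v va vb).1, va, vb, (hs v va vb).2⟩
  · obtain ⟨hc, -, hinv⟩ := hP.odd_stab hab hodd (hP.no_complement hab)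
    obtain ⟨v, v1, vv, va, vb⟩ := hP.exists_swap (hP.two_dvd_card hab) hab
    exact ⟨hc, v, orderOf_eq_prime (by rw [pow_two]; exact vv) v1, va, vb, hinv v va vb⟩

end CfsgLib.Zass.Pre
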