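import Cfsg.Agent.Lib.Zass.Involutions

/-!
# Fixed-point-free elements and classes avoiding the kernel
-/

set_option autoImplicit false
set_option linter.style.haveILetI false
set_option linter.unusedSectionVars false

open MulAction

namespace CfsgLib.Zass

variable {G Ω : Type*} [Group G] [MulAction G Ω] [Fintype Ω]

/-- Counting fixed-point-free elements. -/
theorem Pre.card_fpf (hP : Pre G Ω) {a b : Ω} (hab : a ≠ b) :
    2 * Nat.card {g : G // ∀ c : Ω, g • c ≠ c} + Fintype.card Ω * (Fintype.card Ω - 1) + 2 =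
      Nat.card G + 2 * Fintype.card Ω := by
  classical
  haveI := hP.finite_group
  haveI := Fintype.ofFinite G
  have hG := hP.card_eq hab
  let f : G → ℕ := fun g => (Finset.univ.filter fun x : Ω => g • x = x).card
  let p : G → ℕ := fun g => ((Finset.univ : Finset Ω).offDiag.filter
    fun z => g • z.1 = z.1 ∧ g • z.2 = z.2).card
  have hp : ∀ g, p g + f g = f g * f g := by
    intro g
    have e : ((Finset.univ : Finset Ω).offDiag.filter fun z => g • z.1 = z.1 ∧ g • z.2 = z.2) =
        (Finset.univ.filter fun x : Ω => g • x = x).offDiag := by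
      ext z
      simp only [Finset.mem_filter, Finset.mem_offDiag, Finset.mem_univ, true_and]
      tauto
    show Finset.card _ + _ = _
    rw [e, Finset.offDiag_card, Nat.sub_add_cancel (Nat.le_mul_self _)]
  have hsumf : ∑ g, f g = Nat.card G := by
    have h := Finset.sum_card_bipartiteAbove_eq_sum_card_bipartiteBelow
      (r := fun (g : G) (x : Ω) => g • x = x) (s := (Finset.univ : Finset G))
      (t := (Finset.univ : Finset Ω))
    refine h.trans ?_
    rw [Finset.sum_const_nat (m := Nat.card (stabilizer G a)) ?_, Finset.card_univ,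
      hP.card_stabilizer hab, hG, mul_assoc]
    intro x _
    obtain ⟨y, hy⟩ := hP.exists_ne x
    rw [hP.card_stabilizer hab, hP.card_pair_eq hab hy.symm, ← hP.card_stabilizer hy.symm,
      Nat.card_eq_fintype_card, Fintype.card_subtype]
    rfl
  have hsump : ∑ g, p g = Nat.card G := by
    have h := Finset.sum_card_bipartiteAbove_eq_sum_card_bipartiteBelow
      (r := fun (g : G) (z : Ω × Ω) => g • z.1 = z.1 ∧ g • z.2 = z.2)
      (s := (Finset.univ : Finset G)) (t := (Finset.univ : Finset Ω).offDiag)
    refine h.trans ?_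
    rw [Finset.sum_const_nat (m := Nat.card ↥(stabilizer G a ⊓ stabilizer G b)) ?_,
      Finset.offDiag_card, Finset.card_univ, hG]
    · congr 1
      rw [Nat.mul_sub_one]
    intro z hz
    simp only [Finset.mem_offDiag, Finset.mem_univ, true_and] at hz
    rw [hP.card_pair_eq hab hz, Nat.card_eq_fintype_card, Fintype.card_subtype]
    congr 1
    ext g
    simp [Finset.mem_bipartiteBelow, mem_stabilizer_iff]
  have hle : ∀ g : G, g ≠ 1 → f g ≤ 2 := by
    intro g hg
    have h := hP.card_fix_le_two hg
    rwa [Nat.card_eq_fintype_card, Fintype.card_of_subtype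
      (Finset.univ.filter fun x : Ω => g • x = x) (fun x => by simp)] at h
  have hpt : ∀ g ∈ (Finset.univ : Finset G).erase 1,
      2 * (if f g = 0 then 1 else 0) + 2 * f g = 2 + p g := by
    intro g hg
    have h1 := hle g (Finset.mem_erase.1 hg).1
    have h2 := hp g
    interval_cases (f g) <;> simp <;> omega
  have hs := Finset.sum_congr rfl hpt
  rw [Finset.sum_add_distrib, Finset.sum_add_distrib, ← Finset.mul_sum, ← Finset.mul_sum] at hs
  have e1 := Finset.add_sum_erase Finset.univ f (Finset.mem_univ (1 : G))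
  have e2 := Finset.add_sum_erase Finset.univ p (Finset.mem_univ (1 : G))
  have f1 : f 1 = Fintype.card Ω := by simp [f]
  have p1 := hp 1
  rw [hsumf, f1] at e1
  rw [hsump] at e2
  rw [f1] at p1
  have hD : ∑ g ∈ (Finset.univ : Finset G).erase 1, (if f g = 0 then 1 else 0) =
      Nat.card {g : G // ∀ c : Ω, g • c ≠ c} := by
    rw [Finset.sum_boole, Nat.cast_id, Nat.card_eq_fintype_card, Fintype.card_subtype]
    congr 1
    ext g
    simp only [Finset.mem_filter, Finset.mem_erase, Finset.mem_univ, and_true, true_and]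
    constructor
    · rintro ⟨-, h⟩ c hc
      exact Finset.notMem_empty c ((Finset.card_eq_zero.1 h) ▸ (by simp [hc] : c ∈ _))
    · intro h
      refine ⟨fun e => h a (by rw [e, one_smul]), ?_⟩
      rw [Finset.card_eq_zero, Finset.filter_eq_empty_iff]
      exact fun {c} _ => h c
  rw [hD, Finset.sum_const, Finset.card_erase_of_mem (Finset.mem_univ 1), Finset.card_univ,
    ← Nat.card_eq_fintype_card, smul_eq_mul] at hs
  have h3 := hP.three_le_card
  have hn : Fintype.card Ω * (Fintype.card Ω - 1) + Fintype.card Ω =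
      Fintype.card Ω * Fintype.card Ω := by
    rw [Nat.mul_sub_one, Nat.sub_add_cancel (Nat.le_mul_self _)]
  have := Nat.card_pos (α := G)
  omega

/-- There are two classes of fixed-point-free elements. -/
theorem Pre.exists_two_fpf_classes (hP : Pre G Ω) {a b : Ω} (hab : a ≠ b)
    (hodd : Odd (Nat.card ↥(stabilizer G a ⊓ stabilizer G b)))
    (hlt : Nat.card ↥(stabilizer G a ⊓ stabilizer G b) < Fintype.card Ω - 2) :
    ∃ x y : G, (∀ c : Ω, x • c ≠ c) ∧ (∀ c : Ω, y • c ≠ c) ∧ ¬ IsConj x y := by
  haveI := hP.finite_group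
  have hD := hP.card_fpf hab
  have hG := hP.card_eq hab
  have hdvd := hP.card_dvd_sub_two hab
  obtain ⟨h, hh⟩ : ∃ h, Fintype.card Ω = h + 1 := ⟨Fintype.card Ω - 1, by
    have := hP.three_le_card; omega⟩
  set e := Nat.card ↥(stabilizer G a ⊓ stabilizer G b) with he
  rw [hh, Nat.add_sub_cancel] at hD hG
  rw [show Fintype.card Ω - 2 = h - 1 by omega] at hdvd hlt
  have he3 : 3 ≤ e := by
    obtain ⟨g, hg, ga, gb⟩ := hP.exists_two_fix hab
    haveI : Nontrivial ↥(stabilizer G a ⊓ stabilizer G b) :=
      ⟨⟨⟨g, ga, gb⟩, 1, fun h => hg (congrArg Subtype.val h)⟩⟩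
    have := Finite.one_lt_card (α := ↥(stabilizer G a ⊓ stabilizer G b))
    obtain ⟨k, hk⟩ := hodd
    omega
  have h2e : 2 * e ≤ h - 1 := by
    obtain ⟨q, hq⟩ := hdvd
    rw [hq] at hlt ⊢
    rcases q with _ | _ | q <;> nlinarith
  set D := Nat.card {g : G // ∀ c : Ω, g • c ≠ c} with hDdef
  rw [hG] at hD
  have hDpos : 0 < D := by
    rcases Nat.eq_zero_or_pos D with h0 | h0
    · exfalso
      rw [h0] at hD
      have : 3 * ((h + 1) * h) ≤ (h + 1) * h * e := by rw [mul_comm 3]; exact Nat.mul_le_mul_left _ he3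
      nlinarith [Nat.zero_le ((h + 1) * h), (show 1 ≤ h by omega)]
    · exact h0
  obtain ⟨⟨x, hx⟩⟩ : Nonempty {g : G // ∀ c : Ω, g • c ≠ c} := (Nat.card_pos_iff.1 hDpos).1
  by_contra hno
  push Not at hno
  have hcls : Nat.card {y : G // IsConj x y} = D := by
    refine Nat.card_congr (Equiv.subtypeEquivRight fun y => ⟨fun hy c hc => ?_, fun hy => hno x y hx hy⟩)
    obtain ⟨g, rfl⟩ := isConj_iff.1 hy
    refine hx (g⁻¹ • c) ?_
    rw [eq_inv_smul_iff]
    simpa [mul_smul] using hc
  have hmul := CfsgLib.Char.card_isConj_mul_card_centralizer x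
  set C := Nat.card (Subgroup.centralizer ({x} : Set G))
  rw [hcls, hG] at hmul
  -- `2 D = h * den`, where `den = (h + 1) * (e - 1) + 2`
  clear_value e
  obtain ⟨e', rfl⟩ : ∃ e', e = e' + 1 := ⟨e - 1, by omega⟩
  set den := (h + 1) * e' + 2 with hden
  have hden' : 2 * D = h * den := by
    rw [hden]
    nlinarith
  have h1 : den * C = 2 * (h + 1) * (e' + 1) := by
    refine Nat.eq_of_mul_eq_mul_left (show 0 < h by omega) ?_
    rw [← mul_assoc, ← hden']
    linear_combination 2 * hmul
  have h2 : den ∣ 4 * (e' + 1) := by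
    have h3 : den ∣ 2 * (h + 1) * (e' + 1) * e' := (Dvd.intro C h1).mul_right e'
    have h4 : den ∣ 2 * (e' + 1) * den := dvd_mul_left den _
    rw [show 2 * (e' + 1) * den = 2 * (h + 1) * (e' + 1) * e' + 4 * (e' + 1) by rw [hden]; ring] at h4
    exact (Nat.dvd_add_right h3).1 h4
  have h5 := Nat.le_of_dvd (by omega) h2
  have h6 : (2 * (e' + 1) + 2) * e' ≤ (h + 1) * e' := Nat.mul_le_mul_right _ (by omega)
  rw [hden] at h5
  nlinarith

/-- Each class receives at most `|G|` pairs of involutions through the product map, so at least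
`e` classes avoid the kernel. -/
theorem OddInv.le_card_classes (hS : OddInv G Ω) {a b : Ω} (hab : a ≠ b) {h e : ℕ}
    (hh : Fintype.card Ω = h + 1) (he : Nat.card ↥(stabilizer G a ⊓ stabilizer G b) = e)
    (hlt : e < h) (H : Subgroup G) (hHfix : ∀ u ∈ H, u ≠ 1 → ∀ c : Ω, u • c = c → c = a)
    (hHa : H ≤ stabilizer G a) :
    e ≤ Nat.card {C : ConjClasses G // ∀ g : G, ConjClasses.mk g = C → g ∉ H} := by
  classical
  haveI := hS.pre.finite_group
  haveI := Fintype.ofFinite G
  have hG := hS.card_eq hab he
  rw [hh, Nat.add_sub_cancel] at hG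
  have hI := hS.card_involutions_even hab hh he
  let T : Finset G := Finset.univ.filter (fun x => orderOf x = 2)
  have hT : T.card = Nat.card {x : G // orderOf x = 2} := by
    rw [Nat.card_eq_fintype_card, Fintype.card_subtype]
  set 𝒜 := Finset.univ.filter (fun C : ConjClasses G => ∀ g : G, ConjClasses.mk g = C → g ∉ H)
    with h𝒜
  have hA : Nat.card {C : ConjClasses G // ∀ g : G, ConjClasses.mk g = C → g ∉ H} = 𝒜.card := by
    rw [Nat.card_eq_fintype_card, Fintype.card_subtype]
  rw [hA]
  let P : Finset (G × G) := T ×ˢ T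
  let cl : G × G → ConjClasses G := fun z => ConjClasses.mk (z.1 * z.2)
  -- pairs over one class
  have hfib : ∀ C : ConjClasses G, (P.filter fun z => cl z = C).card ≤ Nat.card G := by
    intro C
    obtain ⟨g, rfl⟩ := ConjClasses.mk_surjective C
    let S : Finset G := Finset.univ.filter (fun u => IsConj g u)
    have hS' : S.card = Nat.card {u : G // IsConj g u} := by
      rw [Nat.card_eq_fintype_card, Fintype.card_subtype]
    refine le_trans (Finset.card_le_mul_card_image_of_maps_to (f := fun z : G × G => z.1 * z.2)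
      (t := S) (fun z hz => ?_) (Nat.card (Subgroup.centralizer ({g} : Set G))) ?_) ?_
    · simp only [Finset.mem_filter, S, Finset.mem_univ, true_and] at hz ⊢
      exact (ConjClasses.mk_eq_mk_iff_isConj.1 hz.2).symm
    · intro u hu
      simp only [S, Finset.mem_filter, Finset.mem_univ, true_and] at hu
      have hc : Nat.card (Subgroup.centralizer ({g} : Set G)) =
          Nat.card (Subgroup.centralizer ({u} : Set G)) := by
        have h1 := CfsgLib.Char.card_isConj_mul_card_centralizer g
        have h2 := CfsgLib.Char.card_isConj_mul_card_centralizer u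
        have h3 : Nat.card {y : G // IsConj u y} = Nat.card {y : G // IsConj g y} :=
          Nat.card_congr (Equiv.subtypeEquivRight fun y => ⟨fun h => hu.trans h, fun h => hu.symm.trans h⟩)
        haveI : Nonempty {y : G // IsConj g y} := ⟨⟨g, IsConj.refl g⟩⟩
        rw [h3] at h2
        exact Nat.eq_of_mul_eq_mul_left Nat.card_pos (h1.trans h2.symm)
      rw [hc, Nat.card_eq_fintype_card, Fintype.card_subtype]
      set F := (P.filter fun z => cl z = ConjClasses.mk g).filter fun z => z.1 * z.2 = u with hFdef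
      rcases F.eq_empty_or_nonempty with h0 | ⟨z0, hz0⟩
      · rw [h0]; simp
      refine Finset.card_le_card_of_injOn (fun z => z0.1⁻¹ * z.1) ?_ ?_
      · intro z hz
        have hF : ∀ w ∈ F, orderOf w.1 = 2 ∧ orderOf w.2 = 2 ∧ w.1 * w.2 = u := by
          intro w hw
          simp only [hFdef, Finset.mem_filter, P, Finset.mem_product, T, Finset.mem_univ,
            true_and] at hw
          exact ⟨hw.1.1.1, hw.1.1.2, hw.2⟩
        have key : ∀ w ∈ F, w.1 * u * w.1⁻¹ = u⁻¹ := by
          intro w hw
          obtain ⟨w1, w2, w3⟩ := hF w hw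
          have a1 : w.1 * w.1 = 1 := by rw [← pow_two, ← w1, pow_orderOf_eq_one]
          have a2 : w.2⁻¹ = w.2 := inv_eq_of_mul_eq_one_right (by rw [← pow_two, ← w2, pow_orderOf_eq_one])
          rw [← w3, mul_inv_rev, a2, ← mul_assoc, a1, one_mul]
        simp only [Finset.coe_filter, Finset.mem_univ, true_and, Set.mem_ofPred_eq,
          Subgroup.mem_centralizer_singleton_iff]
        have k1 := key z hz
        have k2 := key z0 hz0
        calc z0.1⁻¹ * z.1 * u = z0.1⁻¹ * (z.1 * u * z.1⁻¹) * z.1 := by group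
          _ = z0.1⁻¹ * (z0.1 * u * z0.1⁻¹) * z.1 := by rw [k1, k2]
          _ = u * (z0.1⁻¹ * z.1) := by group
      · intro z hz w hw e
        have e' : z.1 = w.1 := mul_left_cancel e
        simp only [hFdef, Finset.coe_filter, Finset.mem_filter, Set.mem_ofPred_eq] at hz hw
        refine Prod.ext e' (mul_left_cancel (a := z.1) ?_)
        nth_rw 2 [e']
        rw [hz.2, hw.2]
    · rw [hS', mul_comm, CfsgLib.Char.card_isConj_mul_card_centralizer]
  have hin : (P.filter fun z => cl z ∈ 𝒜).card ≤ 𝒜.card * Nat.card G := by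
    rw [mul_comm]
    refine Finset.card_le_mul_card_image_of_maps_to (f := cl) (fun z hz => (Finset.mem_filter.1 hz).2)
      (Nat.card G) fun C _ => le_trans (Finset.card_le_card ?_) (hfib C)
    intro z hz
    simp only [Finset.mem_filter] at hz ⊢
    exact ⟨hz.1.1, hz.2⟩
  -- pairs meeting the kernel
  have hmeet : ∀ z ∈ P.filter (fun z => cl z ∉ 𝒜),
      z.2 = z.1 ∨ ∃ c : Ω, z.1 • c = c ∧ z.2 • c = c := by
    intro z hz
    simp only [Finset.mem_filter, P, Finset.mem_product, T, Finset.mem_univ, true_and, h𝒜] at hz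
    obtain ⟨⟨hx, hy⟩, hz⟩ := hz
    push Not at hz
    obtain ⟨u, hu, huH⟩ := hz
    by_cases hu1 : u = 1
    · left
      have h1 : z.1 * z.2 = 1 := by
        obtain ⟨g, hg⟩ := isConj_iff.1 (ConjClasses.mk_eq_mk_iff_isConj.1 hu)
        rw [← hg, hu1, mul_one, mul_inv_cancel]
      rw [← inv_eq_of_mul_eq_one_right h1]
      exact inv_eq_of_mul_eq_one_right (by rw [← pow_two, ← hx, pow_orderOf_eq_one])
    right
    obtain ⟨g, hg⟩ := isConj_iff.1 (ConjClasses.mk_eq_mk_iff_isConj.1 hu)
    have hua : u • a = a := hHa huH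
    obtain ⟨-, h1, h2⟩ := hS.orderOf_product hx hy (u := g * u * g⁻¹) hg.symm
      (by simpa [mul_inv_eq_one] using hu1) (c := g • a)
      (by rw [mul_smul, mul_smul, inv_smul_smul, hua])
      (fun d hd => by
        have h3 := hHfix u huH hu1 (g⁻¹ • d) (by
          rw [eq_inv_smul_iff]
          simpa [mul_smul] using hd)
        rw [← h3, smul_inv_smul])
    exact ⟨g • a, h1, h2⟩
  have hbound : T.card * T.card ≤ 𝒜.card * Nat.card G + (if Even h then T.card * e else T.card) := by
    rw [← Finset.card_product, ← Finset.card_filter_add_card_filter_not (s := P) (fun z => cl z ∈ 𝒜)]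
    refine Nat.add_le_add hin ?_
    split_ifs with hev
    · rw [mul_comm]
      refine Finset.card_le_mul_card_image_of_maps_to (f := Prod.fst)
        (fun z hz => (Finset.mem_product.1 (Finset.mem_filter.1 hz).1).1) e fun x hx => ?_
      simp only [T, Finset.mem_filter, Finset.mem_univ, true_and] at hx
      have hno : Odd (Fintype.card Ω) := hh ▸ hev.add_one
      obtain ⟨c, hc, huniq⟩ := hS.pre.exists_unique_fix hno (by rw [← pow_two, ← hx, pow_orderOf_eq_one])
        (fun h1 => by rw [h1, orderOf_one] at hx; omega)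
      rw [← hS.card_involutions_fix hno hab he c, Nat.card_eq_fintype_card, Fintype.card_subtype]
      refine Finset.card_le_card_of_injOn Prod.snd ?_ ?_
      · intro z hz
        simp only [Finset.coe_filter, Set.mem_ofPred_eq, Finset.mem_filter] at hz
        simp only [Finset.coe_filter, Set.mem_ofPred_eq, Finset.mem_univ, true_and]
        obtain ⟨hz1, hzx⟩ := hz
        have hy : orderOf z.2 = 2 := by
          have := (Finset.mem_product.1 hz1.1).2
          simpa [T] using this
        refine ⟨hy, ?_⟩
        rcases hmeet z (Finset.mem_filter.2 hz1) with h2 | ⟨d, hd1, hd2⟩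
        · rw [h2, hzx, hc]
        · rwa [← huniq d (hzx ▸ hd1)]
      · intro z hz w hw e'
        simp only [Finset.coe_filter, Set.mem_ofPred_eq] at hz hw
        exact Prod.ext (hz.2.trans hw.2.symm) e'
    · refine Finset.card_le_card_of_injOn Prod.fst
        (fun z hz => (Finset.mem_product.1 (Finset.mem_filter.1 hz).1).1) ?_
      intro z hz w hw e'
      have key : ∀ v ∈ P.filter (fun z => cl z ∉ 𝒜), v.2 = v.1 := by
        intro v hv
        rcases hmeet v hv with h2 | ⟨d, hd1, -⟩
        · exact h2
        · exfalso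
          refine hS.involution_fpf (hh ▸ (Nat.not_even_iff_odd.1 hev).add_one) ?_ d hd1
          have := (Finset.mem_product.1 (Finset.mem_filter.1 hv).1).1
          simpa [T] using this
      exact Prod.ext e' (by rw [key z hz, key w hw, e'])
  rw [hT, hI, hG] at hbound
  split_ifs at hbound with hev
  · -- `I² = 𝒜·|G| + I e`, with `I = e (h + 1)`
    have h1 : e * (h + 1) * (e * h) ≤ 𝒜.card * ((h + 1) * h * e) := by
      have h2 : e * (h + 1) * (e * h) + e * (h + 1) * e = e * (h + 1) * (e * (h + 1)) := by ring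
      omega
    have h6 : e * ((h + 1) * h * e) ≤ 𝒜.card * ((h + 1) * h * e) := by
      rw [show e * ((h + 1) * h * e) = e * (h + 1) * (e * h) by ring]
      exact h1
    refine Nat.le_of_mul_le_mul_right h6 ?_
    have : 0 < e := he ▸ Nat.card_pos
    have : 0 < h := by omega
    positivity
  · by_contra hlt'
    push Not at hlt'
    have h1 : 𝒜.card * ((h + 1) * h * e) + ((h + 1) * h * e) ≤ e * ((h + 1) * h * e) := by
      rw [← Nat.succ_mul]; exact Nat.mul_le_mul_right _ hlt'
    have he0 : 0 < e := he ▸ Nat.card_pos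
    have h2 : e * h * (e * h) + (h + 1) * h * e ≤ e * ((h + 1) * h * e) + e * h := by omega
    have h3 : (e * h) * (e * h + (h + 1)) ≤ (e * h) * (e * (h + 1) + 1) :=
      le_of_eq_of_le (by ring) (h2.trans (le_of_eq (by ring)))
    have h4 := Nat.le_of_mul_le_mul_left h3 (Nat.mul_pos he0 (by omega))
    have h5 : e * (h + 1) = e * h + e := by ring
    omega

end CfsgLib.Zass
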