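import Cfsg.Agent.Lib.Zass.Simple
import Cfsg.Agent.Lib.Char.Complete
import Mathlib.Combinatorics.Enumerative.DoubleCounting

/-!
# Involutions and real elements of a simple Zassenhaus group with odd two-point stabiliser
-/

set_option autoImplicit false
set_option linter.style.haveILetI false
set_option linter.unusedSectionVars false

open MulAction

namespace CfsgLib.Zass

variable (G Ω : Type*) [Group G] [MulAction G Ω]

/-- A doubly transitive action fixing at most two points whose two-point stabilisers have odd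
order and are inverted by every element exchanging the two points. -/
structure OddInv : Prop where
  pre : Pre G Ω
  odd : ∀ a b : Ω, a ≠ b → Odd (Nat.card ↥(stabilizer G a ⊓ stabilizer G b))
  inv : ∀ a b : Ω, a ≠ b → ∀ s : G, s • a = b → s • b = a →
    ∀ x ∈ stabilizer G a ⊓ stabilizer G b, s * x * s⁻¹ = x⁻¹

variable {G Ω}

theorem OddInv.of_simple (hZ : Cfsg.IsZassenhausGroup G Ω) [Fintype Ω] [IsSimpleGroup G] {a b : Ω}
    (hab : a ≠ b) (hodd : Odd (Nat.card ↥(stabilizer G a ⊓ stabilizer G b))) : OddInv G Ω := by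
  have hP := Pre.of hZ
  have ho : ∀ c d : Ω, c ≠ d → Odd (Nat.card ↥(stabilizer G c ⊓ stabilizer G d)) := fun c d hcd => by
    rwa [hP.card_pair_eq hcd hab]
  exact ⟨hP, ho, fun c d hcd => (hP.odd_stab hcd (ho c d hcd) (hP.no_complement hcd)).2.2⟩

namespace OddInv

variable [Fintype Ω] (hS : OddInv G Ω)
include hS

theorem card_eq {a b : Ω} (hab : a ≠ b) {e : ℕ}
    (he : Nat.card ↥(stabilizer G a ⊓ stabilizer G b) = e) :
    Nat.card G = Fintype.card Ω * (Fintype.card Ω - 1) * e := he ▸ hS.pre.card_eq hab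

/-- An element with odd order commuting data: no element of order two fixes two points. -/
theorem involution_fix_le_one {x : G} (hx : orderOf x = 2) {c d : Ω} (hc : x • c = c)
    (hd : x • d = d) : d = c := by
  haveI := hS.pre.finite_group
  by_contra hne
  have h := (stabilizer G c ⊓ stabilizer G d).orderOf_dvd_natCard
    (show x ∈ stabilizer G c ⊓ stabilizer G d from ⟨hc, hd⟩)
  rw [hx] at h
  exact (Nat.not_even_iff_odd.2 (hS.odd c d (Ne.symm hne))) (even_iff_two_dvd.2 h)

theorem card_fix_involution {x : G} (hx : orderOf x = 2) :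
    Nat.card (fixedBy Ω x) = Fintype.card Ω % 2 := by
  classical
  have h1 : Nat.card (fixedBy Ω x) ≤ 1 := by
    rw [Nat.card_eq_fintype_card, Fintype.card_le_one_iff]
    exact fun c d => Subtype.ext (hS.involution_fix_le_one hx d.2 c.2)
  have h2 := Pre.card_fix_mod_two (Ω := Ω) (s := x)
    (by rw [← pow_two, ← hx, pow_orderOf_eq_one])
  omega

/-- In even degree involutions fix nothing. -/
theorem involution_fpf (hev : Even (Fintype.card Ω)) {x : G} (hx : orderOf x = 2) (c : Ω) :
    x • c ≠ c := by
  intro hc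
  have h := hS.card_fix_involution hx
  rw [Nat.even_iff.1 hev] at h
  exact (Nat.card_pos_iff.2 ⟨⟨⟨c, hc⟩⟩, inferInstance⟩).ne' h

/-- Every element exchanging two points is an involution. -/
theorem swap_sq {a b : Ω} (hab : a ≠ b) {s : G} (sa : s • a = b) (sb : s • b = a) :
    orderOf s = 2 := by
  haveI := hS.pre.finite_group
  obtain ⟨v, v1, vv, va, vb⟩ := hS.pre.exists_swap (hS.pre.two_dvd_card hab) hab
  have hvi : v⁻¹ = v := inv_eq_of_mul_eq_one_right vv
  have hx : v * s ∈ stabilizer G a ⊓ stabilizer G b := by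
    simp [Subgroup.mem_inf, mul_smul, sa, sb, va, vb]
  have h := hS.inv a b hab v va vb _ hx
  refine orderOf_eq_prime ?_ (fun h1 => hab (by rw [h1, one_smul] at sa; exact sa))
  rw [pow_two]
  have e : v * (v * s) * v⁻¹ * (v * s) = 1 := by rw [h, inv_mul_cancel]
  calc s * s = (v * v) * s * (v⁻¹ * v) * s := by rw [vv]; simp
    _ = v * (v * s) * v⁻¹ * (v * s) := by group
    _ = 1 := e

/-- Any two involutions are conjugate. -/
theorem isConj_involutions {x y : G} (hx : orderOf x = 2) (hy : orderOf y = 2) : IsConj x y := by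
  haveI := hS.pre.finite_group
  haveI := hS.pre.faithful
  have hswap : ∀ z : G, orderOf z = 2 → ∃ c d : Ω, c ≠ d ∧ z • c = d ∧ z • d = c := by
    intro z hz
    obtain ⟨c, hc⟩ : ∃ c : Ω, z • c ≠ c := by
      by_contra h
      push Not at h
      have : z = 1 := eq_of_smul_eq_smul (α := Ω) fun w => by rw [h w, one_smul]
      rw [this, orderOf_one] at hz
      omega
    refine ⟨c, z • c, Ne.symm hc, rfl, ?_⟩
    rw [← mul_smul, ← pow_two, ← hz, pow_orderOf_eq_one, one_smul]
  obtain ⟨c, d, hcd, xc, xd⟩ := hswap x hx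
  obtain ⟨a, b, hab, ya, yb⟩ := hswap y hy
  obtain ⟨g, gc, gd⟩ := hS.pre.two_trans hcd hab
  set x' := g * x * g⁻¹ with hx'
  have x'a : x' • a = b := by rw [← gc, hx', mul_smul, mul_smul, inv_smul_smul, xc, gd]
  have x'b : x' • b = a := by rw [← gd, hx', mul_smul, mul_smul, inv_smul_smul, xd, gc]
  refine (isConj_iff.2 ⟨g, hx'.symm⟩).trans ?_
  have hyi : y⁻¹ = y := inv_eq_of_mul_eq_one_right (by rw [← pow_two, ← hy, pow_orderOf_eq_one])
  have hxx : x' * x' = 1 := by
    rw [← pow_two, ← hS.swap_sq hab x'a x'b, pow_orderOf_eq_one]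
  have hz : y * x' ∈ stabilizer G a ⊓ stabilizer G b := by
    simp [Subgroup.mem_inf, mul_smul, x'a, x'b, ya, yb]
  obtain ⟨k, hk⟩ : Odd (orderOf (y * x')) :=
    Odd.of_dvd_nat (hS.odd a b hab) ((stabilizer G a ⊓ stabilizer G b).orderOf_dvd_natCard hz)
  refine isConj_iff.2 ⟨(y * x') ^ (k + 1), ?_⟩
  set z := y * x' with hzdef
  have h := hS.inv a b hab x' x'a x'b (z ^ (k + 1))⁻¹ (Subgroup.inv_mem _ (Subgroup.pow_mem _ hz _))
  rw [inv_inv] at h
  calc z ^ (k + 1) * x' * (z ^ (k + 1))⁻¹
      = z ^ (k + 1) * (x' * (z ^ (k + 1))⁻¹ * x'⁻¹) * x' := by group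
    _ = z ^ (k + 1 + (k + 1)) * x' := by rw [h, ← pow_add]
    _ = z * x' := by
        rw [show k + 1 + (k + 1) = orderOf z + 1 by omega, pow_succ, pow_orderOf_eq_one, one_mul]
    _ = y := by rw [hzdef, mul_assoc, hxx, mul_one]

/-- The number of involutions, counted through the pairs they exchange. -/
theorem card_involutions {a b : Ω} (hab : a ≠ b) {e : ℕ}
    (he : Nat.card ↥(stabilizer G a ⊓ stabilizer G b) = e) :
    Nat.card {x : G // orderOf x = 2} * (Fintype.card Ω - Fintype.card Ω % 2) =
      Fintype.card Ω * (Fintype.card Ω - 1) * e := by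
  classical
  haveI := hS.pre.finite_group
  haveI := Fintype.ofFinite G
  let T : Finset G := Finset.univ.filter (fun x => orderOf x = 2)
  let E : Finset (Ω × Ω) := (Finset.univ : Finset Ω).offDiag
  let r : G → Ω × Ω → Prop := fun t p => t • p.1 = p.2 ∧ t • p.2 = p.1
  have hB : ∀ t ∈ T, (Finset.bipartiteAbove r E t).card = Fintype.card Ω - Fintype.card Ω % 2 := by
    intro t ht
    simp only [T, Finset.mem_filter, Finset.mem_univ, true_and] at ht
    have tt : t * t = 1 := by rw [← pow_two, ← ht, pow_orderOf_eq_one]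
    have hset : Finset.bipartiteAbove r E t =
        (Finset.univ.filter (fun x : Ω => ¬ t • x = x)).image (fun x => (x, t • x)) := by
      ext ⟨x, y⟩
      simp only [Finset.mem_bipartiteAbove, r, E, Finset.mem_offDiag, Finset.mem_univ, true_and,
        Finset.mem_image, Finset.mem_filter, Prod.mk.injEq]
      constructor
      · rintro ⟨hne, h1, -⟩
        exact ⟨x, fun e => hne (e.symm.trans h1), rfl, h1⟩
      · rintro ⟨z, hz, rfl, rfl⟩
        exact ⟨Ne.symm hz, rfl, by rw [← mul_smul, tt, one_smul]⟩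
    rw [hset, Finset.card_image_of_injective _ (fun x y h => congrArg Prod.fst h)]
    have hf := hS.card_fix_involution ht
    rw [Nat.card_eq_fintype_card, Fintype.card_of_subtype
      (Finset.univ.filter fun x : Ω => t • x = x) (fun x => by simp)] at hf
    have h := Finset.card_filter_add_card_filter_not (s := (Finset.univ : Finset Ω))
      (fun x => t • x = x)
    rw [hf, Finset.card_univ] at h
    omega
  have hA : ∀ p ∈ E, (Finset.bipartiteBelow r T p).card = e := by
    intro p hp
    simp only [E, Finset.mem_offDiag, Finset.mem_univ, true_and] at hp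
    obtain ⟨v, v1, vv, va, vb⟩ := hS.pre.exists_swap (hS.pre.two_dvd_card hp) hp
    rw [show e = (Finset.univ.filter fun x => x ∈ stabilizer G p.1 ⊓ stabilizer G p.2).card by
      rw [← he, hS.pre.card_pair_eq hab hp, Nat.card_eq_fintype_card, Fintype.card_subtype]]
    refine Finset.card_nbij' (fun t => v * t) (fun x => v * x) ?_ ?_ ?_ ?_
    · intro t ht
      simp only [Finset.coe_filter, Finset.mem_univ, true_and, Finset.mem_coe,
        Finset.mem_bipartiteBelow, r, T, Set.mem_setOf_eq, Subgroup.mem_inf,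
        mem_stabilizer_iff, Finset.mem_filter] at ht ⊢
      simp [mul_smul, ht.2.1, ht.2.2, va, vb]
    · intro x hx
      simp only [Finset.coe_filter, Finset.mem_univ, true_and, Finset.mem_coe,
        Finset.mem_bipartiteBelow, r, T, Set.mem_setOf_eq, Subgroup.mem_inf,
        mem_stabilizer_iff, Finset.mem_filter] at hx ⊢
      have h1 : (v * x) • p.1 = p.2 := by rw [mul_smul, hx.1, va]
      have h2 : (v * x) • p.2 = p.1 := by rw [mul_smul, hx.2, vb]
      exact ⟨hS.swap_sq hp h1 h2, h1, h2⟩
    · intro t _; show v * (v * t) = t; rw [← mul_assoc, vv, one_mul]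
    · intro t _; show v * (v * t) = t; rw [← mul_assoc, vv, one_mul]
  have hsum := Finset.sum_card_bipartiteAbove_eq_sum_card_bipartiteBelow (r := r) (s := T) (t := E)
  rw [Finset.sum_const_nat hB, Finset.sum_const_nat hA, Finset.offDiag_card, Finset.card_univ] at hsum
  rw [Nat.card_eq_fintype_card, Fintype.card_subtype, hsum]
  congr 1
  rw [Nat.mul_sub_one]

theorem card_involutions_even {a b : Ω} (hab : a ≠ b) {h e : ℕ} (hh : Fintype.card Ω = h + 1)
    (he : Nat.card ↥(stabilizer G a ⊓ stabilizer G b) = e) :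
    Nat.card {x : G // orderOf x = 2} = if Even h then e * (h + 1) else e * h := by
  have h1 := hS.card_involutions hab he
  have h3 := hS.pre.three_le_card
  rw [hh, Nat.add_sub_cancel] at h1
  split_ifs with hev
  · rw [show (h + 1) % 2 = 1 by rw [Nat.even_iff] at hev; omega, Nat.add_sub_cancel] at h1
    refine Nat.eq_of_mul_eq_mul_right (show 0 < h by omega) (h1.trans ?_)
    ring
  · rw [show (h + 1) % 2 = 0 by rw [Nat.not_even_iff] at hev; omega, Nat.sub_zero] at h1
    refine Nat.eq_of_mul_eq_mul_right (show 0 < h + 1 by omega) (h1.trans ?_)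
    ring

/-- In odd degree each point is fixed by exactly `e` involutions. -/
theorem card_involutions_fix (hno : Odd (Fintype.card Ω)) {a b : Ω} (hab : a ≠ b) {e : ℕ}
    (he : Nat.card ↥(stabilizer G a ⊓ stabilizer G b) = e) (c : Ω) :
    Nat.card {x : G // orderOf x = 2 ∧ x • c = c} = e := by
  classical
  haveI := hS.pre.finite_group
  haveI := Fintype.ofFinite G
  have hall : ∀ d : Ω, Nat.card {x : G // orderOf x = 2 ∧ x • d = d} =
      Nat.card {x : G // orderOf x = 2 ∧ x • c = c} := by
    intro d
    obtain ⟨g, hg⟩ := hS.pre.transitive d c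
    refine Nat.card_congr ((MulAut.conj g).toEquiv.subtypeEquiv fun x => ?_)
    simp only [MulEquiv.toEquiv_eq_coe, EquivLike.coe_coe, MulEquiv.orderOf_eq, MulAut.conj_apply]
    rw [show orderOf (g * x * g⁻¹) = orderOf x by rw [← MulAut.conj_apply, MulEquiv.orderOf_eq]]
    refine and_congr_right fun _ => ?_
    rw [← hg, mul_smul, mul_smul, inv_smul_smul, smul_left_cancel_iff]
  have htot : Nat.card {x : G // orderOf x = 2} =
      ∑ d : Ω, Nat.card {x : G // orderOf x = 2 ∧ x • d = d} := by
    rw [← Nat.card_sigma]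
    refine (Nat.card_congr (Equiv.ofBijective
      (fun z : (d : Ω) × {x : G // orderOf x = 2 ∧ x • d = d} => (⟨z.2.1, z.2.2.1⟩ : {x : G // orderOf x = 2}))
      ⟨?_, ?_⟩)).symm
    · rintro ⟨d, x, hx⟩ ⟨d', x', hx'⟩ heq
      obtain rfl : x = x' := congrArg Subtype.val heq
      obtain rfl : d = d' := hS.involution_fix_le_one hx.1 hx'.2 hx.2
      rfl
    · rintro ⟨x, hx⟩
      have h := hS.card_fix_involution hx
      rw [Nat.odd_iff.1 hno] at h
      obtain ⟨-, ⟨d, hd⟩⟩ := Nat.card_eq_one_iff_unique.1 h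
      exact ⟨⟨d, x, hx, hd⟩, rfl⟩
  obtain ⟨h, hh⟩ : ∃ h, Fintype.card Ω = h + 1 := ⟨Fintype.card Ω - 1, by
    have := hS.pre.three_le_card; omega⟩
  have hI := hS.card_involutions_even hab hh he
  have hev : Even h := by rw [hh] at hno; exact Nat.not_odd_iff_even.1 fun ho => (Nat.not_even_iff_odd.2 hno) (ho.add_odd odd_one)
  rw [if_pos hev, htot, Finset.sum_congr rfl (fun d _ => hall d), Finset.sum_const,
    Finset.card_univ, smul_eq_mul, hh, mul_comm e] at hI
  exact Nat.eq_of_mul_eq_mul_left (Nat.succ_pos h) hI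

/-- In odd degree the centraliser of an involution is the kernel of the point it fixes. -/
theorem centralizer_involution (hno : Odd (Fintype.card Ω)) {x : G} (hx : orderOf x = 2) {c : Ω}
    (hc : x • c = c) {K : Subgroup G} (hK : Pre.IsKernel c K) :
    Subgroup.centralizer ({x} : Set G) = K := by
  classical
  haveI := hS.pre.finite_group
  have hP := hS.pre
  have hx1 : x ≠ 1 := fun e => by rw [e, orderOf_one] at hx; omega
  have huniq : ∀ d, x • d = d → d = c := fun d hd => hS.involution_fix_le_one hx hc hd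
  have hle : Subgroup.centralizer ({x} : Set G) ≤ K := by
    intro g hg
    rw [Subgroup.mem_centralizer_singleton_iff] at hg
    have hgc : g • c = c := huniq _ (by rw [← mul_smul, ← hg, mul_smul, hc])
    by_cases hg1 : g = 1
    · rw [hg1]; exact K.one_mem
    refine hK.mem g hgc fun d hd => ?_
    by_contra hdc
    have : g • (x • d) = x • d := by rw [← mul_smul, hg, mul_smul, hd]
    rcases hP.eq_or_eq hg1 (Ne.symm hdc) hgc hd this with h | h
    · exact hdc (MulAction.injective x (h.trans hc.symm))
    · exact hdc (huniq d h)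
  refine Subgroup.eq_of_le_of_card_ge hle ?_
  obtain ⟨b, hb⟩ := hP.exists_ne c
  have hI : Nat.card {y : G // IsConj x y} = Nat.card {y : G // orderOf y = 2} :=
    Nat.card_congr (Equiv.subtypeEquivRight fun y => ⟨fun h => by
      obtain ⟨g, rfl⟩ := isConj_iff.1 h
      rw [← MulAut.conj_apply, MulEquiv.orderOf_eq, hx], fun h => hS.isConj_involutions hx h⟩)
  have hmul := CfsgLib.Char.card_isConj_mul_card_centralizer x
  have hKc := hK.card hP
  rw [hI, hS.card_involutions_even hb.symm hKc.symm rfl, if_pos (by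
    rw [← hKc] at hno; exact Nat.not_odd_iff_even.1 fun ho => (Nat.not_even_iff_odd.2 hno) (ho.add_odd odd_one)),
    hP.card_eq hb.symm, ← hKc, Nat.add_sub_cancel] at hmul
  refine le_of_eq (Nat.eq_of_mul_eq_mul_left (Nat.mul_pos (Nat.card_pos
    (α := ↥(stabilizer G c ⊓ stabilizer G b))) (Nat.succ_pos (Nat.card K))) ?_).symm
  rw [hmul, Nat.succ_eq_add_one]; ring

/-- Involutions fixing a common point commute. -/
theorem commute_of_fix (hno : Odd (Fintype.card Ω)) {x y : G} (hx : orderOf x = 2)
    (hy : orderOf y = 2) {c : Ω} (hxc : x • c = c) (hyc : y • c = c) : x * y = y * x := by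
  obtain ⟨K, hK⟩ := hS.pre.exists_kernel c
  have hmem : y ∈ Subgroup.centralizer ({x} : Set G) := by
    rw [hS.centralizer_involution hno hx hxc hK]
    exact hK.mem y hyc fun d hd => hS.involution_fix_le_one hy hyc hd
  exact (Subgroup.mem_centralizer_singleton_iff.1 hmem).symm

/-- If the product of two involutions fixes exactly one point, it is an involution. -/
theorem orderOf_product {x y u : G} (hx : orderOf x = 2) (hy : orderOf y = 2) (hxy : x * y = u)
    (hu1 : u ≠ 1) {c : Ω} (hu : u • c = c) (huniq : ∀ d, u • d = d → d = c) :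
    orderOf u = 2 ∧ x • c = c ∧ y • c = c := by
  have xx : x * x = 1 := by rw [← pow_two, ← hx, pow_orderOf_eq_one]
  have yy : y * y = 1 := by rw [← pow_two, ← hy, pow_orderOf_eq_one]
  have hxc : x • c = c := huniq _ (by
    have e : u * x * u = x := by
      rw [← hxy]
      calc x * y * x * (x * y) = x * y * (x * x) * y := by group
        _ = x * (y * y) := by rw [xx]; group
        _ = x := by rw [yy, mul_one]
    conv_rhs => rw [← e]
    rw [mul_smul, mul_smul, hu])
  have hyc : y • c = c := by
    conv_rhs => rw [← hu, ← hxy, mul_smul]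
    have : x • x • y • c = y • c := by rw [← mul_smul, xx, one_smul]
    calc y • c = x • x • y • c := this.symm
      _ = x • c := by rw [← mul_smul x y, hxy, hu]
      _ = c := hxc
      _ = x • y • c := by rw [← mul_smul, hxy, hu]
  have hno : Odd (Fintype.card Ω) := by
    by_contra h
    exact hS.involution_fpf (Nat.not_odd_iff_even.1 h) hx c hxc
  refine ⟨orderOf_eq_prime ?_ hu1, hxc, hyc⟩
  rw [← hxy, Commute.mul_pow (hS.commute_of_fix hno hx hy hxc hyc), pow_two, pow_two, xx, yy,
    one_mul]

end OddInv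

end CfsgLib.Zass
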