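import Cfsg.Agent.Lib.Zass.Normal
import Cfsg.Agent.Lib.Zass.FpfCyclic
import Mathlib.FieldTheory.Fixed
import Mathlib.GroupTheory.SpecificGroups.ZGroup
import Mathlib.FieldTheory.Finite.Basic
import Mathlib.Algebra.Ring.Subring.Basic
import Mathlib.LinearAlgebra.FiniteDimensional.Defs

/-!
# A regular normal subgroup: the degree is `2 ^ p`
-/

set_option autoImplicit false
set_option linter.style.haveILetI false
set_option linter.unusedSectionVars false

open MulAction

namespace CfsgLib.Zass.Pre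

variable {G Ω : Type*} [Group G] [MulAction G Ω]

theorem card_eq_two_pow (hP : Pre G Ω) [Fintype Ω] {R : Subgroup G} (hR : IsRegularNormal R Ω) :
    ∃ p : ℕ, p.Prime ∧ Fintype.card Ω = 2 ^ p := by
  classical
  haveI := hP.finite_group
  haveI := hP.faithful
  obtain ⟨g, hg1, a, b, hab, ga, gb⟩ := hP.exTwo
  haveI : Nonempty Ω := ⟨a⟩
  obtain ⟨u, hu, hua⟩ := hR.trans a b
  have hu1 : u ≠ 1 := fun e => hab (by rw [e, one_smul] at hua; exact hua)
  have hRne : R ≠ ⊥ := fun e => hu1 (by rwa [e, Subgroup.mem_bot] at hu)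
  obtain ⟨hcomm, r, hr, hrR, hord⟩ := hR.elementary hP.two hRne
  obtain ⟨q, hq, hqd⟩ := Nat.exists_prime_and_dvd (fun e => hg1 (orderOf_eq_one_iff.1 e) : orderOf g ≠ 1)
  haveI := Fact.mk hq
  set h := g ^ (orderOf g / q) with hh
  have hho : orderOf h = q := by
    rw [hh, orderOf_pow' g (Nat.ne_of_gt (Nat.div_pos (Nat.le_of_dvd (orderOf_pos g) hqd) hq.pos)),
      Nat.gcd_eq_right (Nat.div_dvd_of_dvd hqd), Nat.div_div_self hqd (orderOf_pos g).ne']
  have hh1 : h ≠ 1 := fun e => by rw [e, orderOf_one] at hho; exact hq.one_lt.ne hho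
  have ha : h • a = a := Subgroup.pow_mem (stabilizer G a) ga _
  have hb : h • b = b := Subgroup.pow_mem (stabilizer G b) gb _
  have hfixu : h * u * h⁻¹ = u := hR.eq_of_smul (hR.normal.conj_mem u hu h) hu (x := a)
    (by rw [IsRegularNormal.conj_smul ha, hua, hb])
  have hfix : ∀ x ∈ R, h * x * h⁻¹ = x → x = 1 ∨ x = u := by
    intro x hx e
    have e2 : h • x • a = x • a := by rw [← IsRegularNormal.conj_smul ha, e]
    rcases hP.eq_or_eq hh1 hab ha hb e2 with h1 | h1
    · exact Or.inl (hR.free x hx a h1)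
    · exact Or.inr (hR.eq_of_smul hx hu (x := a) (h1.trans hua.symm))
  have huu : u * u = 1 := by
    rcases hfix (u * u) (R.mul_mem hu hu) (by
      calc h * (u * u) * h⁻¹ = (h * u * h⁻¹) * (h * u * h⁻¹) := by group
        _ = u * u := by rw [hfixu]) with e | e
    · exact e
    · exact absurd (mul_left_cancel (e.trans (mul_one u).symm)) hu1
  have hr2 : r = 2 := by rw [← hord u hu hu1]; exact orderOf_eq_prime (by rw [pow_two]; exact huu) hu1
  subst hr2
  haveI : Fact (Nat.Prime 2) := ⟨hr⟩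
  have hRcard : Nat.card R = Fintype.card Ω := by
    rw [← Nat.card_eq_fintype_card]
    refine Nat.card_congr (Equiv.ofBijective (fun x : R => (x : G) • a) ⟨?_, ?_⟩)
    · exact fun x y e => Subtype.ext (hR.eq_of_smul x.2 y.2 e)
    · intro y
      obtain ⟨x, hx, e⟩ := hR.trans a y
      exact ⟨⟨x, hx⟩, e⟩
  obtain ⟨K, hK⟩ := hP.exists_kernel a
  have hKcard := hK.card hP
  have h3 := hP.three_le_card
  obtain ⟨k, hk⟩ := IsPGroup.iff_card.1 hrR
  have hkpos : k ≠ 0 := by
    intro e
    rw [hRcard, e, pow_zero] at hk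
    omega
  have hKodd : Odd (Nat.card K) := by
    have h2 : 2 ∣ Fintype.card Ω := by rw [← hRcard, hk]; exact dvd_pow_self 2 hkpos
    rw [Nat.odd_iff]
    omega
  have hKfix : ∀ y ∈ K, y ≠ 1 → ∀ x ∈ R, y * x * y⁻¹ = x → x = 1 := by
    intro y hy hy1 x hx e
    refine hR.free x hx a (hK.fix y hy hy1 _ ?_)
    rw [← IsRegularNormal.conj_smul (hK.le y hy), e]
  -- the kernel is commutative
  haveI : IsMulCommutative R := ⟨⟨fun x y => Subtype.ext (hcomm x x.2 y y.2)⟩⟩
  haveI := hR.normal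
  haveI : IsZGroup K := ⟨fun l hl P => by
    haveI := Fact.mk hl
    by_cases hld : l ∣ Nat.card K
    · haveI := isCyclic_of_fpf (p := l)
        (fun e => by
          subst e
          exact (Nat.not_even_iff_odd.2 hKodd) (even_iff_two_dvd.2 hld))
        hRne (P := (P : Subgroup K).map K.subtype)
        (by rw [Subgroup.normalizer_eq_top]; exact le_top)
        (fun y hy hy1 => by
          rw [Subgroup.eq_bot_iff_forall]
          rintro x ⟨hx, hc⟩
          refine hKfix y (Subgroup.map_subtype_le _ hy) hy1 x hx ?_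
          rw [mul_inv_eq_iff_eq_mul]
          exact Subgroup.mem_centralizer_iff.1 hc y rfl) (P.isPGroup'.map _)
      exact (Subgroup.equivMapOfInjective _ _ K.subtype_injective).isCyclic.2 inferInstance
    · have hb' : (P : Subgroup K) = ⊥ := by
        rcases P.isPGroup'.card_eq_or_dvd with h | h
        · exact Subgroup.card_eq_one.1 h
        · exact absurd (h.trans (Subgroup.card_subgroup_dvd_card _)) hld
      show IsCyclic (P : Subgroup K)
      rw [hb']; infer_instance⟩
  set DG : Subgroup G := (commutator K).map K.subtype with hDG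
  haveI : IsCyclic (commutator K) := IsZGroup.isCyclic_commutator K
  haveI : IsCyclic DG :=
    (Subgroup.equivMapOfInjective _ _ K.subtype_injective).isCyclic.1 inferInstance
  have hDnorm : ∀ y : G, y • a = a → ∀ d ∈ DG, y * d * y⁻¹ ∈ DG := by
    intro y hy d hd
    have e : ⁅K, K⁆ = DG := (Subgroup.map_subtype_commutator K).symm
    rw [← e] at hd ⊢
    have h1 : y * d * y⁻¹ ∈ (⁅K, K⁆ : Subgroup G).map (MulAut.conj y).toMonoidHom := ⟨d, hd, rfl⟩
    rw [Subgroup.map_commutator] at h1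
    refine Subgroup.commutator_mono ?_ ?_ h1 <;>
    · rintro _ ⟨z, hz, rfl⟩
      exact hK.conj_mem y hy z hz
  have hDc : commutator K ≤ Subgroup.center K := by
    intro d hd
    rw [Subgroup.mem_center_iff]
    rintro ⟨y, hy⟩
    obtain ⟨x, hx, rfl⟩ := hK.exists_commutator hP hab.symm ha hb hh1 hy
    have hxa : x⁻¹ • a = a := hK.le _ (K.inv_mem hx)
    have hd' : (d : G) ∈ DG := ⟨d, hd, rfl⟩
    have hd2 : h⁻¹ * (x⁻¹ * d * x) * h ∈ DG := by
      have h1 : x⁻¹ * d * x ∈ DG := by simpa using hDnorm x⁻¹ hxa d hd'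
      simpa using hDnorm h⁻¹ (by rw [inv_smul_eq_iff, ha]) _ h1
    have c := conj_comm (D := DG) (u := h) (w := x) (hDnorm h ha) (hDnorm x (hK.le x hx)) hd2
    refine Subtype.ext (mul_inv_eq_iff_eq_mul.1 ?_)
    show h * x * h⁻¹ * x⁻¹ * d * (h * x * h⁻¹ * x⁻¹)⁻¹ = d
    calc h * x * h⁻¹ * x⁻¹ * d * (h * x * h⁻¹ * x⁻¹)⁻¹
        = h * (x * (h⁻¹ * (x⁻¹ * d * x) * h) * x⁻¹) * h⁻¹ := by group
      _ = x * (h * (h⁻¹ * (x⁻¹ * d * x) * h) * h⁻¹) * x⁻¹ := c
      _ = d := by group
  have hKc : ∀ x y : K, x * y = y * x := fun x y =>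
    @mul_comm K (commGroupOfCyclicCenterQuotient Abelianization.of
      (by rw [Abelianization.ker_of]; exact hDc)).toCommMagma x y
  -- the endomorphisms commuting with the kernel form a field
  letI : CommGroup R :=
    { (inferInstance : Group R) with mul_comm := fun x y => Subtype.ext (hcomm x x.2 y y.2) }
  let ρ : G →* AddMonoid.End (Additive R) :=
    { toFun := fun y => MonoidHom.toAdditive (MulAut.conjNormal y : MulAut R).toMonoidHom
      map_one' := by
        refine AddMonoidHom.ext fun v => ?_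
        exact congrArg Additive.ofMul (Subtype.ext (by simp; rfl))
      map_mul' := fun y z => by
        refine AddMonoidHom.ext fun v => ?_
        exact congrArg Additive.ofMul (Subtype.ext (by
          show (MulAut.conjNormal (y * z) (Additive.toMul v) : G) =
            ((MulAut.conjNormal y (MulAut.conjNormal z (Additive.toMul v)) : R) : G)
          simp only [MulAut.conjNormal_apply]
          group)) }
  let u' : Additive R := Additive.ofMul ⟨u, hu⟩
  have hu'0 : u' ≠ 0 := fun e => hu1 (congrArg (fun v : Additive R => ((Additive.toMul v : R) : G)) e)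
  have hρu : ρ h u' = u' := congrArg Additive.ofMul (Subtype.ext hfixu)
  have hρinv : ∀ (y : G) (v : Additive R), ρ y (ρ y⁻¹ v) = v := fun y v => by
    show (ρ y * ρ y⁻¹) v = v
    rw [← map_mul, mul_inv_cancel, map_one]; rfl
  have hcover : ∀ v : Additive R, v = 0 ∨ ∃ y ∈ K, ρ y u' = v := by
    intro v
    by_cases hv : v = 0
    · exact Or.inl hv
    refine Or.inr ?_
    set x : R := Additive.toMul v with hx
    have hxa : (x : G) • a ≠ a := fun e => hv (congrArg Additive.ofMul
      (Subtype.ext (hR.free x x.2 a e) : x = 1))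
    obtain ⟨y, hy, e⟩ := hK.regular b ((x : G) • a) hab.symm hxa
    refine ⟨y, hy, congrArg Additive.ofMul (Subtype.ext ?_ : MulAut.conjNormal y ⟨u, hu⟩ = x)⟩
    rw [MulAut.conjNormal_apply]
    refine hR.eq_of_smul (hR.normal.conj_mem u hu y) x.2 (x := a) ?_
    rw [IsRegularNormal.conj_smul (hK.le y hy), hua, e]
  let E : Subring (AddMonoid.End (Additive R)) := Subring.centralizer (ρ '' (K : Set G))
  have hEmem : ∀ y ∈ K, ρ y ∈ E := fun y hy => Subring.mem_centralizer_iff.2 (by
    rintro _ ⟨z, hz, rfl⟩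
    rw [← map_mul, ← map_mul]
    exact congrArg (fun t : K => ρ (t : G)) (hKc ⟨z, hz⟩ ⟨y, hy⟩))
  have hinj : ∀ φ ψ : E, φ.1 u' = ψ.1 u' → φ = ψ := by
    intro φ ψ e
    refine Subtype.ext (AddMonoidHom.ext fun v => ?_)
    rcases hcover v with rfl | ⟨y, hy, rfl⟩
    · exact (map_zero φ.1).trans (map_zero ψ.1).symm
    · have e1 : ρ y (φ.1 u') = φ.1 (ρ y u') :=
        congrArg (fun f : AddMonoid.End (Additive R) => f u')
          (Subring.mem_centralizer_iff.1 φ.2 (ρ y) ⟨y, hy, rfl⟩)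
      have e2 : ρ y (ψ.1 u') = ψ.1 (ρ y u') :=
        congrArg (fun f : AddMonoid.End (Additive R) => f u')
          (Subring.mem_centralizer_iff.1 ψ.2 (ρ y) ⟨y, hy, rfl⟩)
      exact e1.symm.trans ((congrArg (ρ y) e).trans e2)
  have hEcases : ∀ φ : E, φ = 0 ∨ ∃ (y : G) (hy : y ∈ K), φ = ⟨ρ y, hEmem y hy⟩ := by
    intro φ
    rcases hcover (φ.1 u') with e | ⟨y, hy, e⟩
    · exact Or.inl (hinj φ 0 e)
    · exact Or.inr ⟨y, hy, hinj φ _ e.symm⟩
  have hF : IsField E := by
    refine ⟨⟨0, 1, fun e => hu'0 ?_⟩, ?_, ?_⟩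
    · exact (congrArg (fun φ : E => φ.1 u') e).symm
    · intro φ ψ
      rcases hEcases φ with rfl | ⟨y, hy, rfl⟩
      · simp
      rcases hEcases ψ with rfl | ⟨z, hz, rfl⟩
      · simp
      refine Subtype.ext ?_
      show ρ y * ρ z = ρ z * ρ y
      rw [← map_mul, ← map_mul]
      exact congrArg (fun t : K => ρ (t : G)) (hKc ⟨y, hy⟩ ⟨z, hz⟩)
    · intro φ hφ
      rcases hEcases φ with rfl | ⟨y, hy, rfl⟩
      · exact absurd rfl hφ
      refine ⟨⟨ρ y⁻¹, hEmem _ (K.inv_mem hy)⟩, Subtype.ext ?_⟩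
      show ρ y * ρ y⁻¹ = 1
      rw [← map_mul, mul_inv_cancel, map_one]
  have hinvKa : ∀ y : G, y • a = a → ∀ φ : E, ρ y * φ.1 * ρ y⁻¹ ∈ E := by
    intro y hy φ
    refine Subring.mem_centralizer_iff.2 ?_
    rintro _ ⟨z, hz, rfl⟩
    have hz' : y⁻¹ * z * y ∈ K := by
      simpa using hK.conj_mem y⁻¹ (by rw [inv_smul_eq_iff, hy]) z hz
    have e := Subring.mem_centralizer_iff.1 φ.2 (ρ (y⁻¹ * z * y)) ⟨_, hz', rfl⟩
    have k1 : ρ z * ρ y = ρ y * ρ (y⁻¹ * z * y) := by
      rw [← map_mul, ← map_mul]; exact congrArg ρ (by group)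
    have k2 : ρ (y⁻¹ * z * y) * ρ y⁻¹ = ρ y⁻¹ * ρ z := by
      rw [← map_mul, ← map_mul]; exact congrArg ρ (by group)
    calc ρ z * (ρ y * φ.1 * ρ y⁻¹) = ρ z * ρ y * φ.1 * ρ y⁻¹ := by simp only [mul_assoc]
      _ = ρ y * (ρ (y⁻¹ * z * y) * φ.1) * ρ y⁻¹ := by rw [k1]; simp only [mul_assoc]
      _ = ρ y * φ.1 * (ρ (y⁻¹ * z * y) * ρ y⁻¹) := by rw [e]; simp only [mul_assoc]
      _ = ρ y * φ.1 * ρ y⁻¹ * ρ z := by rw [k2]; simp only [mul_assoc]
  let cj : stabilizer G a →* RingAut E :=
    { toFun := fun y =>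
        { toFun := fun φ => ⟨ρ y * φ.1 * ρ (y : G)⁻¹, hinvKa y y.2 φ⟩
          invFun := fun φ => ⟨ρ (y : G)⁻¹ * φ.1 * ρ y, by
            have := hinvKa (y : G)⁻¹ (inv_smul_eq_iff.2 (show (y : G) • a = a from y.2).symm) φ
            rwa [inv_inv] at this⟩
          left_inv := fun φ => Subtype.ext (by
            show ρ (y : G)⁻¹ * (ρ y * φ.1 * ρ (y : G)⁻¹) * ρ y = φ.1
            simp only [← mul_assoc, ← map_mul, inv_mul_cancel, map_one, one_mul]
            rw [mul_assoc, ← map_mul, inv_mul_cancel, map_one, mul_one])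
          right_inv := fun φ => Subtype.ext (by
            show ρ y * (ρ (y : G)⁻¹ * φ.1 * ρ y) * ρ (y : G)⁻¹ = φ.1
            simp only [← mul_assoc, ← map_mul, mul_inv_cancel, map_one, one_mul]
            rw [mul_assoc, ← map_mul, mul_inv_cancel, map_one, mul_one])
          map_mul' := fun φ ψ => Subtype.ext (by
            show ρ y * (φ.1 * ψ.1) * ρ (y : G)⁻¹ =
              (ρ y * φ.1 * ρ (y : G)⁻¹) * (ρ y * ψ.1 * ρ (y : G)⁻¹)
            calc ρ y * (φ.1 * ψ.1) * ρ (y : G)⁻¹
                = ρ y * φ.1 * (ρ (y : G)⁻¹ * ρ y) * ψ.1 * ρ (y : G)⁻¹ := by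
                  rw [← map_mul, inv_mul_cancel, map_one, mul_one, mul_assoc (ρ (y : G)) φ.1]
              _ = _ := by simp only [mul_assoc])
          map_add' := fun φ ψ => Subtype.ext (by
            show ρ y * (φ.1 + ψ.1) * ρ (y : G)⁻¹ = _
            rw [mul_add, add_mul]; rfl) }
      map_one' := RingEquiv.ext fun φ => Subtype.ext (by
        show ρ ((1 : stabilizer G a) : G) * φ.1 * ρ ((1 : stabilizer G a) : G)⁻¹ = φ.1
        simp)
      map_mul' := fun y z => RingEquiv.ext fun φ => Subtype.ext (by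
        show ρ ((y * z : stabilizer G a) : G) * φ.1 * ρ ((y * z : stabilizer G a) : G)⁻¹ =
          ρ y * (ρ z * φ.1 * ρ (z : G)⁻¹) * ρ (y : G)⁻¹
        simp only [Subgroup.coe_mul, mul_inv_rev, map_mul, mul_assoc]) }
  set σ : RingAut E := cj ⟨h, ha⟩ with hσdef
  have hσu : ∀ φ : E, (σ φ).1 u' = ρ h (φ.1 u') := by
    intro φ
    show ρ h (φ.1 (ρ h⁻¹ u')) = _
    have e : ρ h⁻¹ u' = u' := by
      conv_lhs => rw [← hρu]
      show (ρ h⁻¹ * ρ h) u' = u'
      rw [← map_mul, inv_mul_cancel, map_one]; rfl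
    rw [e]
  have hσfix : ∀ φ : E, σ φ = φ ↔ φ = 0 ∨ φ = 1 := by
    intro φ
    constructor
    · intro e
      have e1 : ρ h (φ.1 u') = φ.1 u' := by rw [← hσu, e]
      set x : R := Additive.toMul (φ.1 u') with hx
      have e2 : h * (x : G) * h⁻¹ = x := by
        rw [← MulAut.conjNormal_apply (H := R)]
        exact congrArg (fun v : Additive R => ((Additive.toMul v : R) : G)) e1
      rcases hfix x x.2 e2 with h0 | h0
      · refine Or.inl (hinj φ 0 ?_)
        exact congrArg Additive.ofMul (Subtype.ext h0 : x = 1)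
      · refine Or.inr (hinj φ 1 ?_)
        exact congrArg Additive.ofMul (Subtype.ext h0 : x = ⟨u, hu⟩)
    · rintro (rfl | rfl)
      · exact map_zero σ
      · exact map_one σ
  letI := hF.toField
  haveI : Finite (Additive R) := inferInstanceAs (Finite R)
  haveI : Finite (AddMonoid.End (Additive R)) :=
    Finite.of_injective (fun f => (f : Additive R → Additive R)) DFunLike.coe_injective
  haveI : Finite E := inferInstance
  have hEcard : Nat.card E = Nat.card R := by
    refine Nat.card_congr (Equiv.ofBijective (fun φ : E => Additive.toMul (φ.1 u')) ⟨?_, ?_⟩)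
    · exact fun φ ψ e => hinj φ ψ (Additive.toMul.injective e)
    · intro x
      rcases hcover (Additive.ofMul x) with e | ⟨y, hy, e⟩
      · exact ⟨0, (congrArg Additive.toMul e).symm⟩
      · exact ⟨⟨ρ y, hEmem y hy⟩, congrArg Additive.toMul e⟩
  have hσ1 : σ ≠ 1 := by
    intro e
    have hall : ∀ φ : E, φ = 0 ∨ φ = 1 := fun φ => (hσfix φ).1 (by rw [e]; rfl)
    have : Nat.card E ≤ 2 := by
      haveI := Fintype.ofFinite E
      rw [Nat.card_eq_fintype_card, ← Finset.card_univ]
      exact le_trans (Finset.card_le_card (t := {0, 1}) fun φ _ => by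
        rcases hall φ with rfl | rfl <;> simp) Finset.card_le_two
    rw [hEcard, hRcard] at this
    omega
  have hσq : σ ^ q = 1 := by
    rw [hσdef, ← map_pow, show (⟨h, ha⟩ : stabilizer G a) ^ q = 1 from Subtype.ext (by
      show h ^ q = 1
      rw [← hho, pow_orderOf_eq_one]), map_one]
  haveI : Finite (RingAut E) :=
    Finite.of_injective (fun f => (f : E → E)) DFunLike.coe_injective
  haveI : Fintype (Subgroup.zpowers σ) := Fintype.ofFinite _
  have hfin : Module.finrank (FixedPoints.subfield (Subgroup.zpowers σ) E) E = q := by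
    rw [FixedPoints.finrank_eq_card, ← Nat.card_eq_fintype_card, Nat.card_zpowers,
      orderOf_eq_prime hσq hσ1]
  have hsub : Nat.card (FixedPoints.subfield (Subgroup.zpowers σ) E) = 2 := by
    rw [← SetLike.coe_sort_coe, Nat.card_coe_set_eq]
    have : ((FixedPoints.subfield (Subgroup.zpowers σ) E : Subfield E) : Set E) = {0, 1} := by
      ext φ
      simp only [SetLike.mem_coe, Set.mem_insert_iff, Set.mem_singleton_iff]
      rw [← hσfix]
      constructor
      · intro h1; exact h1 ⟨σ, Subgroup.mem_zpowers σ⟩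
      · intro h1
        rintro ⟨τ, hτ⟩
        have hle : Subgroup.zpowers σ ≤ stabilizer (RingAut E) φ :=
          Subgroup.zpowers_le.2 (show σ • φ = φ from h1)
        exact hle hτ
    rw [this, Set.ncard_pair zero_ne_one]
  refine ⟨q, hq, ?_⟩
  rw [← hRcard, ← hEcard, Module.natCard_eq_pow_finrank (K := FixedPoints.subfield (Subgroup.zpowers σ) E),
    hsub, hfin]

end CfsgLib.Zass.Pre
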