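import Cfsg.Agent.Lib.Zass.Counting
import Mathlib.GroupTheory.Perm.Cycle.Type
import Mathlib.GroupTheory.Subgroup.Simple

/-!
# An odd permutation in a two-point stabiliser
-/

set_option autoImplicit false
set_option linter.style.haveILetI false
set_option linter.unusedSectionVars false

open MulAction

namespace CfsgLib.Zass.Pre

variable {G Ω : Type*} [Group G] [MulAction G Ω]

/-- An element of a two-point stabiliser of even order `r`, whose cycles on the other points are
odd in number, gives an odd permutation; so the group is not simple. -/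
theorem false_of_odd_cycles (hP : Pre G Ω) [Fintype Ω] [IsSimpleGroup G] {a b : Ω} (hab : a ≠ b)
    {y : G} (ya : y • a = a) (yb : y • b = b) (heven : Even (orderOf y))
    {k : ℕ} (hk : Odd k) (hn : Fintype.card Ω - 2 = k * orderOf y) : False := by
  classical
  haveI := hP.finite_group
  haveI := hP.faithful
  set σ : Equiv.Perm Ω := MulAction.toPermHom G Ω y with hσ
  have hy1 : y ≠ 1 := fun h => by simp [h] at heven
  have hinj : Function.Injective (MulAction.toPermHom G Ω) := by
    intro g g' h
    exact eq_of_smul_eq_smul (α := Ω) fun x => Equiv.congr_fun h x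
  have hord : orderOf σ = orderOf y := orderOf_injective _ hinj y
  have hsupp : σ.support = (Finset.univ.erase a).erase b := by
    ext x
    simp only [Equiv.Perm.mem_support, Finset.mem_erase, Finset.mem_univ, and_true]
    constructor
    · intro h
      exact ⟨fun e => h (e ▸ yb), fun e => h (e ▸ ya)⟩
    · intro h e
      rcases hP.eq_or_eq hy1 hab ya yb e with h' | h'
      exacts [h.2 h', h.1 h']
  have hall : ∀ n ∈ σ.cycleType, n = orderOf y := by
    intro n hn'
    have hdvd : n ∣ orderOf y := by
      rw [← hord, ← Equiv.Perm.lcm_cycleType]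
      exact Multiset.dvd_lcm hn'
    obtain ⟨c, τ, hcτ, hdis, hc, hcard⟩ := Equiv.Perm.mem_cycleType_iff.1 hn'
    refine Nat.dvd_antisymm hdvd (orderOf_dvd_of_pow_eq_one ?_)
    obtain ⟨x, hx⟩ : c.support.Nonempty := by
      rw [← Finset.card_pos, hcard]
      exact (Equiv.Perm.one_lt_of_mem_cycleType hn').le.trans_lt' Nat.zero_lt_one
    have hxs : x ∈ σ.support := by
      rw [hcτ, hdis.support_mul]; exact Finset.mem_union_left _ hx
    rw [hsupp] at hxs
    simp only [Finset.mem_erase, Finset.mem_univ, and_true] at hxs
    have hfix : (σ ^ n) x = x := by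
      rw [hcτ, hdis.commute.mul_pow, ← hcard, ← hc.orderOf, pow_orderOf_eq_one, one_mul]
      have hτ : τ x = x := (hdis x).resolve_left (Equiv.Perm.mem_support.1 hx)
      exact Equiv.Perm.pow_apply_eq_self_of_apply_eq_self hτ _
    rw [hσ, ← map_pow] at hfix
    have fa : (y ^ n) • a = a := (Subgroup.pow_mem (stabilizer G a) ya n)
    have fb : (y ^ n) • b = b := (Subgroup.pow_mem (stabilizer G b) yb n)
    by_contra h1
    rcases hP.eq_or_eq h1 hab fa fb hfix with h' | h'
    exacts [hxs.2 h', hxs.1 h']
  have hrep : σ.cycleType = Multiset.replicate σ.cycleType.card (orderOf y) :=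
    Multiset.eq_replicate.2 ⟨rfl, hall⟩
  have hpos : 0 < orderOf y := orderOf_pos y
  have hcnt : σ.cycleType.card = k := by
    have h := σ.sum_cycleType
    rw [hrep, Multiset.sum_replicate, smul_eq_mul, hsupp,
      Finset.card_erase_of_mem (by simp [hab.symm]), Finset.card_erase_of_mem (Finset.mem_univ a),
      Finset.card_univ, show Fintype.card Ω - 1 - 1 = Fintype.card Ω - 2 by omega, hn] at h
    rw [hrep, Multiset.card_replicate]
    exact Nat.eq_of_mul_eq_mul_right hpos h
  have hsign : Equiv.Perm.sign σ = -1 := by
    rw [hcnt] at hrep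
    rw [Equiv.Perm.sign_of_cycleType, hrep, Multiset.sum_replicate, Multiset.card_replicate,
      smul_eq_mul]
    exact (Even.mul_left heven k).add_odd hk |>.neg_one_pow
  set φ : G →* ℤˣ := Equiv.Perm.sign.comp (MulAction.toPermHom G Ω) with hφ
  have hφy : φ y = -1 := hsign
  rcases (MonoidHom.normal_ker φ).eq_bot_or_eq_top with h | h
  · have hinj' : Function.Injective φ := (MonoidHom.ker_eq_bot_iff φ).1 h
    have h2 := Nat.card_le_card_of_injective _ hinj'
    rw [Nat.card_eq_fintype_card (α := ℤˣ), Fintype.card_units_int] at h2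
    have h3 := hP.card_eq hab
    have h4 := hP.three_le_card
    have h5 : 0 < Nat.card ↥(stabilizer G a ⊓ stabilizer G b) := Nat.card_pos
    have h6 : 3 * 2 ≤ Fintype.card Ω * (Fintype.card Ω - 1) := Nat.mul_le_mul h4 (by omega)
    have h7 := Nat.le_mul_of_pos_right (Fintype.card Ω * (Fintype.card Ω - 1)) h5
    omega
  · have : φ y = 1 := (MonoidHom.mem_ker).1 (h ▸ Subgroup.mem_top y)
    rw [hφy] at this
    exact absurd this (by decide)

end CfsgLib.Zass.Pre
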